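import Cfsg.Agent.Omega.NSix.Basic

/-!
# OMEGA N6, the family version of `NSix.Base`

The groups `W_ij = ⟨V ^ N_ij⟩` are replaced by any family `W i j ≥ V` of subgroups of `N_ij` which is normalised by
`N_ij` and permuted by `N_G(V)`: for a pair `V`, `V'` of different types one takes
`W i j = {g ∈ N_ij | [O₂(N_ij), g] ≤ ⟨r_ij⟩}` (#15496, (r1)).
-/

set_option autoImplicit false
set_option linter.dupNamespace false

namespace Cfsg.Agent.Omega.NSix.Fam.Base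

open Subgroup Cfsg.Agent.Omega.S5.Def Cfsg.Agent.Omega.NSix.Base Cfsg.Agent.Omega.NSix.Basic

universe u

variable {G : Type u} [Group G] {n : ℕ}

/-- the output of (0), for a family `W` -/
structure FBase (V : Subgroup G) (W : Fin n → Fin n → Subgroup G) (ε : (Fin n → ZMod 2) → G) : Prop where
  ev : EvenSet n V (normalizer (V : Set G)) ε
  le : ∀ i j, i ≠ j → V ≤ W i j
  nrm : ∀ i j, i ≠ j → ∀ g ∈ NN ε i j, ∀ x ∈ W i j, g * x * g⁻¹ ∈ W i j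
  cnj : ∀ i j, i ≠ j → ∀ g ∈ normalizer (V : Set G), ∀ σ, Acts ε g σ → ∀ x ∈ W i j,
    g * x * g⁻¹ ∈ W (σ i) (σ j)
  symm : ∀ i j, W i j = W j i
  cen : ∀ i j, i ≠ j → ∀ u ∈ UU ε i j, ∀ w ∈ W i j, u * w = w * u
  act : ∀ i j, i ≠ j → ∀ w ∈ W i j, Acts ε w 1 ∨ Acts ε w (Equiv.swap i j)
  mov : ∀ i j, i ≠ j → ∃ w ∈ W i j, Acts ε w (Equiv.swap i j)
  tra : ∀ i j k l, i ≠ j → k ≠ l → i ≠ k → i ≠ l → j ≠ k → j ≠ l → ∀ u ∈ UU ε i j,
    ∀ w ∈ W k l, w * u * w⁻¹ = u ∨ w * u * w⁻¹ = u * rr ε k l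

variable {V : Subgroup G} {W : Fin n → Fin n → Subgroup G} {ε : (Fin n → ZMod 2) → G}

theorem FBase.uu_le (b : FBase V W ε) {i j : Fin n} (hij : i ≠ j) {u : G} (hu : u ∈ UU ε i j) : u ∈ W i j := by
  unfold UU at hu
  refine (closure_le _).mpr ?_ hu
  rintro x ⟨g, hg, k, -, -, rfl⟩
  exact b.nrm i j hij g hg _ (b.le i j hij (zz_mem b.ev k))

end Cfsg.Agent.Omega.NSix.Fam.Base
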