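import Cfsg.Agent.Omega.NSix.Fam.One
import Cfsg.Agent.MinSimple.VModule

/-!
# OMEGA N6, #14568 (helper150), family version (`NSix.End` with any family `W`, #15496 (r1))

`FSix V W ε`: `FBase`, the minimality of `V` (`min`), `U_ij ≤ O₂(N_kl)` for disjoint pairs (`hq`), and
`[O₂(N_ij), W_ij] ≤ ⟨r_ij⟩` (`qc`).  `FSix.nn_le`: `C_G(r_ij) ≤ N_G(V)` for odd `n ≥ 7`.
-/

set_option autoImplicit false

namespace Cfsg.Agent.Omega.NSix.Fam.End

open Subgroup Cfsg Cfsg.Agent.ZN Cfsg.Agent.MinSimple.VModule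
open Cfsg.Agent.Omega.S5.Def Cfsg.Agent.Omega.NSix.Base Cfsg.Agent.Omega.NSix.Basic
open Cfsg.Agent.Omega.NSix.Fam.Base Cfsg.Agent.Omega.NSix.Fam.One

universe u

variable {G : Type u} [Group G] {n : ℕ} {V : Subgroup G} {W : Fin n → Fin n → Subgroup G} {ε : (Fin n → ZMod 2) → G}

/-- the situation (H1), (H2) -/
structure FSix (V : Subgroup G) (W : Fin n → Fin n → Subgroup G) (ε : (Fin n → ZMod 2) → G) : Prop extends FBase V W ε where
  min : ∀ A : Subgroup G, (∀ g ∈ normalizer (V : Set G), ∀ a ∈ A, g * a * g⁻¹ ∈ A) →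
    (∀ a ∈ A, a * a = 1) → A ≠ ⊥ → V ≤ A
  hq : ∀ i j k l, i ≠ j → k ≠ l → i ≠ k → i ≠ l → j ≠ k → j ≠ l → UU ε i j ≤ o2 (NN ε k l)
  qc : ∀ i j, i ≠ j → ∀ x ∈ o2 (NN ε i j), ∀ w ∈ W i j,
    w * x * w⁻¹ = x ∨ w * x * w⁻¹ = x * rr ε i j

theorem uu_cenV (b : FBase V W ε) {i j : Fin n} (hij : i ≠ j) {u : G} (hu : u ∈ UU ε i j) :
    u ∈ centralizer (V : Set G) := by
  rw [mem_centralizer_iff]
  intro v hv
  exact (b.cen i j hij u hu v (b.le i j hij hv)).symm

theorem uu_acts (b : FBase V W ε) {i j : Fin n} (hij : i ≠ j) {u : G} (hu : u ∈ UU ε i j) :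
    Acts ε u 1 := b.ev.acts_one_iff.mpr (uu_cenV b hij hu)

theorem cenV_NN (b : FBase V W ε) (i j : Fin n) {x : G} (hx : x ∈ centralizer (V : Set G)) :
    x ∈ NN ε i j := by
  rw [mem_NN]
  exact (mem_centralizer_iff.mp hx _ (rr_mem b.ev i j)).symm

/-! ### (A) -/

theorem comm_mem (b : FBase V W ε) {i j k l : Fin n} (hij : i ≠ j) {u y : G}
    (hu : u ∈ UU ε i j) (hy : y ∈ UU ε k l) : u * y * u⁻¹ * y⁻¹ ∈ UU ε k l :=
  mul_mem (UU_normal (cenV_NN b k l (uu_cenV b hij hu)) hy) (inv_mem hy)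

theorem comm_mem' (b : FBase V W ε) {i j k l : Fin n} (hkl : k ≠ l) {u y : G}
    (hu : u ∈ UU ε i j) (hy : y ∈ UU ε k l) : u * y * u⁻¹ * y⁻¹ ∈ UU ε i j := by
  have h1 := UU_normal (cenV_NN b i j (uu_cenV b hkl hy)) (inv_mem hu)
  have h2 : u * y * u⁻¹ * y⁻¹ = u * (y * u⁻¹ * y⁻¹) := by group
  rw [h2]
  exact mul_mem hu h1

theorem step1 [Finite G] (b : FBase V W ε) (hodd : Odd n) (hn : 7 ≤ n) {a c d e : Fin n}
    (hac : a ≠ c) (had : a ≠ d) (hae : a ≠ e) (hcd : c ≠ d) (hce : c ≠ e) (hde : d ≠ e) {u y : G}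
    (hu : u ∈ UU ε a c) (hy : y ∈ UU ε a d) :
    ∃ y' ∈ UU ε a e, u * y' * u⁻¹ * y'⁻¹ = u * y * u⁻¹ * y⁻¹ := by
  obtain ⟨w, hw, hws⟩ := b.mov d e hde
  have hy' := UU_conj hws hy
  rw [swap_fix had hae, Equiv.swap_apply_left] at hy'
  refine ⟨_, hy', ?_⟩
  set k := y⁻¹ * (w * y * w⁻¹) with hk
  have hkW : k ∈ W d e := by
    have h1 := b.nrm _ _ hde _ (inv_mem (cenV_NN b d e (uu_cenV b had hy))) _ hw
    have h2 : k = (y⁻¹ * w * y⁻¹⁻¹) * w⁻¹ := by rw [hk]; group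
    rw [h2]
    exact mul_mem h1 (inv_mem hw)
  have hk1 : Acts ε k 1 := by
    have h1 := (uu_acts b had hy).inv.mul (uu_acts b hae hy')
    rwa [inv_one, one_mul] at h1
  have hku := one b hodd hn hac hde had.symm hcd.symm hae.symm hce.symm hkW hk1 (inv_mem hu)
  have h3 : w * y * w⁻¹ = y * k := by rw [hk]; group
  rw [h3]
  calc u * (y * k) * u⁻¹ * (y * k)⁻¹ = u * y * (k * u⁻¹ * k⁻¹) * y⁻¹ := by group
    _ = _ := by rw [hku]

theorem step2 (b : FBase V W ε) {a c d : Fin n} (hac : a ≠ c) (had : a ≠ d) (hcd : c ≠ d) {u y : G}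
    (hu : u ∈ UU ε a c) (hy : y ∈ UU ε a d) :
    ∃ y' ∈ UU ε c d, u * y' * u⁻¹ * y'⁻¹ = u * y * u⁻¹ * y⁻¹ := by
  obtain ⟨w, hw, hws⟩ := b.mov a c hac
  have hy' := UU_conj hws hy
  rw [swap_fix had.symm hcd.symm, Equiv.swap_apply_left] at hy'
  refine ⟨_, hy', ?_⟩
  have h1 := b.cen a c hac u hu w hw
  have h2 := b.cen a c hac _ (comm_mem' b had hu hy) w hw
  have h3 : w⁻¹ * u * w = u := by rw [mul_assoc, h1]; group
  calc u * (w * y * w⁻¹) * u⁻¹ * (w * y * w⁻¹)⁻¹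
      = w * ((w⁻¹ * u * w) * y * (w⁻¹ * u * w)⁻¹ * y⁻¹) * w⁻¹ := by group
    _ = w * (u * y * u⁻¹ * y⁻¹) * w⁻¹ := by rw [h3]
    _ = _ := by rw [← h2]; group

section

variable [Finite G] (b : FBase V W ε) (hodd : Odd n) (hn : 7 ≤ n)
include hodd hn b

theorem s1 {a c d e : Fin n} (hac : a ≠ c) (had : a ≠ d) (hae : a ≠ e) (hcd : c ≠ d) {u y : G}
    (hu : u ∈ UU ε a c) (hy : y ∈ UU ε a d) : u * y * u⁻¹ * y⁻¹ ∈ UU ε a e := by
  by_cases h1 : e = c
  · subst h1; exact comm_mem' b had hu hy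
  by_cases h2 : e = d
  · subst h2; exact comm_mem b hac hu hy
  obtain ⟨y', hy', h3⟩ := step1 b hodd hn hac had hae hcd (Ne.symm h1) (Ne.symm h2) hu hy
  rw [← h3]
  exact comm_mem b hac hu hy'

theorem s2 {a c d e : Fin n} (hac : a ≠ c) (had : a ≠ d) (hce : c ≠ e) (hcd : c ≠ d) {u y : G}
    (hu : u ∈ UU ε a c) (hy : y ∈ UU ε a d) : u * y * u⁻¹ * y⁻¹ ∈ UU ε c e := by
  obtain ⟨y', hy', h3⟩ := step2 b hac had hcd hu hy
  rw [← h3]
  rw [UU_symm b.ev] at hu
  exact s1 b hodd hn hac.symm hcd hce had hu hy'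

theorem s3 {a c d e : Fin n} (hac : a ≠ c) (had : a ≠ d) (hde : d ≠ e) (hcd : c ≠ d) {u y : G}
    (hu : u ∈ UU ε a c) (hy : y ∈ UU ε a d) : u * y * u⁻¹ * y⁻¹ ∈ UU ε d e := by
  have h1 := inv_mem (s2 b hodd hn had hac hde hcd.symm hy hu)
  have h2 : (y * u * y⁻¹ * u⁻¹)⁻¹ = u * y * u⁻¹ * y⁻¹ := by group
  rwa [h2] at h1

theorem s4 {a c d e f : Fin n} (hac : a ≠ c) (had : a ≠ d) (hcd : c ≠ d) (hef : e ≠ f) {u y : G}
    (hu : u ∈ UU ε a c) (hy : y ∈ UU ε a d) : u * y * u⁻¹ * y⁻¹ ∈ UU ε e f := by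
  by_cases h1 : e = a
  · subst h1; exact s1 b hodd hn hac had hef hcd hu hy
  by_cases h2 : e = c
  · subst h2; exact s2 b hodd hn hac had hef hcd hu hy
  by_cases h3 : e = d
  · subst h3; exact s3 b hodd hn hac had hef hcd hu hy
  obtain ⟨y', hy', h4⟩ := step1 b hodd hn hac had (Ne.symm h1) hcd (Ne.symm h2) (Ne.symm h3) hu hy
  rw [← h4]
  exact s3 b hodd hn hac (Ne.symm h1) hef (Ne.symm h2) hu hy'

end

namespace FSix

theorem inter (b : FSix V W ε) (hn : 3 ≤ n) {x : G} (hx : ∀ i j, i ≠ j → x ∈ UU ε i j) : x = 1 := by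
  let A : Subgroup G :=
    { carrier := {x | ∀ i j, i ≠ j → x ∈ UU ε i j}
      one_mem' := fun _ _ _ => one_mem _
      mul_mem' := fun hx hy i j hij => mul_mem (hx i j hij) (hy i j hij)
      inv_mem' := fun hx i j hij => inv_mem (hx i j hij) }
  have h01 : (⟨0, by omega⟩ : Fin n) ≠ ⟨1, by omega⟩ := by
    intro h; simp at h
  by_contra hne
  have hA : A ≠ ⊥ := by
    intro h
    have : x ∈ A := hx
    rw [h, mem_bot] at this
    exact hne this
  have hV := b.min A (by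
    intro g hg a ha i j hij
    obtain ⟨σ, hσ⟩ := b.ev.perm g hg
    have h1 := UU_conj hσ (ha (σ⁻¹ i) (σ⁻¹ j) (fun h => hij (σ⁻¹.injective h)))
    have e : ∀ m, σ (σ⁻¹ m) = m := fun m => σ.apply_symm_apply m
    rwa [e, e] at h1)
    (fun a ha => uu_sq b.toFBase h01 (ha _ _ h01)) hA
  have h1 := hV (zz_mem b.ev ⟨0, by omega⟩) _ _ h01
  obtain ⟨w, hw, hws⟩ := b.mov _ _ h01
  have h2 := b.cen _ _ h01 _ h1 w hw
  have h3 := zz_conj hws ⟨0, by omega⟩
  rw [← h2, mul_inv_cancel_right, Equiv.swap_apply_left] at h3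
  exact h01 (b.ev.single_inj hn h3)

variable [Finite G]

/-- (A) -/
theorem comm_share (b : FSix V W ε) (hodd : Odd n) (hn : 7 ≤ n) {a c d : Fin n} (hac : a ≠ c)
    (had : a ≠ d) (hcd : c ≠ d) {u y : G} (hu : u ∈ UU ε a c) (hy : y ∈ UU ε a d) :
    u * y = y * u := by
  have h1 := b.inter (by omega) fun e f hef => s4 b.toFBase hodd hn hac had hcd hef hu hy
  rw [mul_inv_eq_one, mul_inv_eq_iff_eq_mul] at h1
  exact h1

theorem comm_all (b : FSix V W ε) (hodd : Odd n) (hn : 7 ≤ n) {i j k l : Fin n} (hij : i ≠ j)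
    (hkl : k ≠ l) {u y : G} (hu : u ∈ UU ε i j) (hy : y ∈ UU ε k l) : u * y = y * u := by
  by_cases h1 : k = i
  · subst h1
    by_cases h2 : l = j
    · subst h2; exact uu_comm b.toFBase hij hu hy
    · exact b.comm_share hodd hn hij hkl (Ne.symm h2) hu hy
  by_cases h2 : l = i
  · subst h2
    by_cases h3 : k = j
    · subst h3
      rw [UU_symm b.ev] at hy
      exact uu_comm b.toFBase hij hu hy
    · rw [UU_symm b.ev] at hy
      exact b.comm_share hodd hn hij hkl.symm (Ne.symm h3) hu hy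
  by_cases h3 : k = j
  · subst h3
    rw [UU_symm b.ev] at hu
    exact b.comm_share hodd hn hij.symm hkl (Ne.symm h2) hu hy
  by_cases h4 : l = j
  · subst h4
    rw [UU_symm b.ev] at hu hy
    exact b.comm_share hodd hn hij.symm hkl.symm (Ne.symm h1) hu hy
  have h5 := one b.toFBase hodd hn hij hkl h1 h3 h2 h4 (b.uu_le hkl hy)
    (uu_acts b.toFBase hkl hy) hu
  rw [mul_inv_eq_iff_eq_mul] at h5
  exact h5.symm

/-- `Y = ⟨U_p⟩` -/
def YY (ε : (Fin n → ZMod 2) → G) : Subgroup G := closure {y | ∃ i j, i ≠ j ∧ y ∈ UU ε i j}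

omit [Finite G] in
theorem uu_le_YY {i j : Fin n} (hij : i ≠ j) : UU ε i j ≤ YY ε :=
  fun _ hy => subset_closure ⟨i, j, hij, hy⟩

theorem yy_comm (b : FSix V W ε) (hodd : Odd n) (hn : 7 ≤ n) {x y : G} (hx : x ∈ YY ε)
    (hy : y ∈ YY ε) : x * y = y * x := by
  have h1 : YY ε ≤ centralizer ({y | ∃ i j, i ≠ j ∧ y ∈ UU ε i j} : Set G) := by
    unfold YY
    rw [closure_le]
    rintro x ⟨i, j, hij, hx⟩
    rw [SetLike.mem_coe, mem_centralizer_iff]
    rintro y ⟨k, l, hkl, hy⟩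
    exact b.comm_all hodd hn hkl hij hy hx
  have h2 : YY ε ≤ centralizer (YY ε : Set G) := by
    conv_lhs => unfold YY
    rw [closure_le]
    rintro x ⟨i, j, hij, hx⟩
    rw [SetLike.mem_coe, mem_centralizer_iff]
    intro y hy
    exact (mem_centralizer_iff.mp (h1 hy) x ⟨i, j, hij, hx⟩).symm
  exact (mem_centralizer_iff.mp (h2 hx) y hy).symm

theorem yy_sq (b : FSix V W ε) (hodd : Odd n) (hn : 7 ≤ n) {y : G} (hy : y ∈ YY ε) : y * y = 1 := by
  have hc := fun {u v : G} (hu : u ∈ YY ε) (hv : v ∈ YY ε) => b.yy_comm hodd hn hu hv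
  unfold YY at hy
  induction hy using closure_induction with
  | mem x hx =>
    obtain ⟨i, j, hij, hx⟩ := hx
    exact uu_sq b.toFBase hij hx
  | one => rw [one_mul]
  | mul x y hx hy h1 h2 =>
    calc x * y * (x * y) = x * (y * x) * y := by group
      _ = x * (x * y) * y := by rw [hc hy hx]
      _ = (x * x) * (y * y) := by group
      _ = 1 := by rw [h1, h2, one_mul]
  | inv x hx h1 =>
    calc x⁻¹ * x⁻¹ = (x * x)⁻¹ := by group
      _ = 1 := by rw [h1, inv_one]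

omit [Finite G] in
theorem yy_conj (b : FSix V W ε) {g y : G} (hg : g ∈ normalizer (V : Set G)) (hy : y ∈ YY ε) :
    g * y * g⁻¹ ∈ YY ε := by
  obtain ⟨σ, hσ⟩ := b.ev.perm g hg
  unfold YY at hy ⊢
  induction hy using closure_induction with
  | mem x hx =>
    obtain ⟨i, j, hij, hx⟩ := hx
    exact subset_closure ⟨σ i, σ j, fun h => hij (σ.injective h), UU_conj hσ hx⟩
  | one => rw [mul_one, mul_inv_cancel]; exact one_mem _
  | mul x y _ _ hx hy =>
    have : g * (x * y) * g⁻¹ = (g * x * g⁻¹) * (g * y * g⁻¹) := by group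
    rw [this]; exact mul_mem hx hy
  | inv x _ hx =>
    have : g * x⁻¹ * g⁻¹ = (g * x * g⁻¹)⁻¹ := by group
    rw [this]; exact inv_mem hx

/-- `C_Y(F_L) = 1` -/
theorem fix (b : FSix V W ε) (hodd : Odd n) (hn : 7 ≤ n) {t : G} (ht : t ∈ YY ε)
    (hf : ∀ i j, i ≠ j → ∀ w ∈ W i j, w * t * w⁻¹ = t) : t = 1 := by
  let A : Subgroup G :=
    { carrier := {t | t ∈ YY ε ∧ ∀ i j, i ≠ j → ∀ w ∈ W i j, w * t * w⁻¹ = t}
      one_mem' := ⟨one_mem _, fun _ _ _ w _ => by group⟩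
      mul_mem' := fun {x y} hx hy => ⟨mul_mem hx.1 hy.1, fun i j hij w hw => by
        calc w * (x * y) * w⁻¹ = (w * x * w⁻¹) * (w * y * w⁻¹) := by group
          _ = x * y := by rw [hx.2 i j hij w hw, hy.2 i j hij w hw]⟩
      inv_mem' := fun {x} hx => ⟨inv_mem hx.1, fun i j hij w hw => by
        calc w * x⁻¹ * w⁻¹ = (w * x * w⁻¹)⁻¹ := by group
          _ = x⁻¹ := by rw [hx.2 i j hij w hw]⟩ }
  have h01 : (⟨0, by omega⟩ : Fin n) ≠ ⟨1, by omega⟩ := by
    intro h; simp at h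
  by_contra hne
  have hA : A ≠ ⊥ := by
    intro h
    have : t ∈ A := ⟨ht, hf⟩
    rw [h, mem_bot] at this
    exact hne this
  have hV := b.min A (by
    rintro g hg a ⟨ha, ha2⟩
    refine ⟨b.yy_conj hg ha, fun i j hij w hw => ?_⟩
    obtain ⟨σ, hσ⟩ := b.ev.perm g hg
    have h1 := b.cnj _ _ hij _ (inv_mem hg) _ hσ.inv _ hw
    have h2 := ha2 _ _ (fun h => hij (σ⁻¹.injective h)) _ h1
    rw [inv_inv] at h2
    calc w * (g * a * g⁻¹) * w⁻¹ = g * ((g⁻¹ * w * g) * a * (g⁻¹ * w * g)⁻¹) * g⁻¹ := by group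
      _ = g * a * g⁻¹ := by rw [h2])
    (fun a ha => b.yy_sq hodd hn ha.1) hA
  have h1 := (hV (zz_mem b.ev ⟨0, by omega⟩)).2 _ _ h01
  obtain ⟨w, hw, hws⟩ := b.mov _ _ h01
  have h3 := h1 w hw
  rw [zz_conj hws, Equiv.swap_apply_left] at h3
  exact h01 (b.ev.single_inj (by omega) h3.symm)

omit [Finite G] in
/-- induction on the elements of `V` -/
theorem v_ind (b : FSix V W ε) (P : G → Prop) (h1 : P 1) (hz : ∀ k x, x ∈ V → P x → P (zz ε k * x)) :
    ∀ v ∈ V, P v := by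
  have key : ∀ S : Finset (Fin n), P (ε (∑ k ∈ S, Pi.single k 1)) := by
    intro S
    induction S using Finset.induction_on with
    | empty => rw [Finset.sum_empty, b.ev.zero]; exact h1
    | insert k S hk ih =>
      rw [Finset.sum_insert hk, b.ev.add]
      exact hz k _ (b.ev.mem _) ih
  intro v hv
  obtain ⟨x, rfl⟩ := b.ev.surj v hv
  have h1 : x = ∑ k ∈ Finset.univ.filter (fun k => x k ≠ 0), Pi.single k 1 := by
    funext m
    rw [Finset.sum_apply]
    by_cases hm : x m = 0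
    · rw [hm, Finset.sum_eq_zero]
      intro k hk
      have : m ≠ k := by
        rintro rfl
        exact (Finset.mem_filter.mp hk).2 hm
      exact Pi.single_eq_of_ne this _
    · rw [Finset.sum_eq_single m]
      · rw [Pi.single_eq_same]; exact Tv.z2_one hm
      · intro k _ hk
        exact Pi.single_eq_of_ne (Ne.symm hk) _
      · intro h0
        exfalso
        apply h0
        rw [Finset.mem_filter]
        exact ⟨Finset.mem_univ _, hm⟩
  rw [h1]
  exact key _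

omit [Finite G] in
theorem exists_off (hn : 6 ≤ n) (a c d e : Fin n) : ∃ k l : Fin n, k ≠ l ∧
    (k ≠ a ∧ k ≠ c ∧ k ≠ d ∧ k ≠ e) ∧ (l ≠ a ∧ l ≠ c ∧ l ≠ d ∧ l ≠ e) := by
  have hcard : 1 < (Finset.univ \ {a, c, d, e} : Finset (Fin n)).card := by
    have h1 := Finset.le_card_sdiff {a, c, d, e} (Finset.univ : Finset (Fin n))
    rw [Finset.card_univ, Fintype.card_fin] at h1
    have h2 : ({a, c, d, e} : Finset (Fin n)).card ≤ 4 := Finset.card_le_four
    omega
  obtain ⟨k, hk, l, hl, hkl⟩ := Finset.one_lt_card.mp hcard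
  simp only [Finset.mem_sdiff, Finset.mem_univ, true_and, Finset.mem_insert,
    Finset.mem_singleton, not_or] at hk hl
  exact ⟨k, l, hkl, hk, hl⟩

omit [Finite G] in
theorem v_le_YY (b : FSix V W ε) (hn : 7 ≤ n) : V ≤ YY ε := by
  refine b.v_ind (fun x => x ∈ YY ε) (one_mem _) ?_
  intro k x _ hx
  obtain ⟨i, j, hij, hi, hj⟩ := exists_off (by omega) k k k k
  exact mul_mem (uu_le_YY hij (zz_mem_UU (Ne.symm hi.1) (Ne.symm hj.1))) hx

/-- `t` is acted on by `W_p` as a vector with a transvection -/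
structure Good (W : Fin n → Fin n → Subgroup G) (ε : (Fin n → ZMod 2) → G) (t : G) : Prop where
  triv : ∀ i j, i ≠ j → ∀ w ∈ W i j, Acts ε w 1 → w * t * w⁻¹ = t
  act : ∀ i j, i ≠ j → ∀ w ∈ W i j, w * t * w⁻¹ = t ∨ w * t * w⁻¹ = t * rr ε i j

open Classical in
/-- the value of `f_ij` at `t` -/
noncomputable def fv (W : Fin n → Fin n → Subgroup G) (ε : (Fin n → ZMod 2) → G) (t : G) (i j : Fin n) : ZMod 2 :=
  if ∀ w ∈ W i j, w * t * w⁻¹ = t then 0 else 1

omit [Finite G] in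
theorem fv_spec (b : FSix V W ε) {t : G} (h : Good W ε t) {i j : Fin n} (hij : i ≠ j) {w : G}
    (hw : w ∈ W i j) (hs : Acts ε w (Equiv.swap i j)) :
    w * t * w⁻¹ = t * pw (rr ε i j) (fv W ε t i j) := by
  unfold fv
  by_cases hc : ∀ w ∈ W i j, w * t * w⁻¹ = t
  · rw [if_pos hc, pw_zero, mul_one]
    exact hc w hw
  · rw [if_neg hc, pw_one]
    push Not at hc
    obtain ⟨x, hx, hxt⟩ := hc
    have hx2 := (h.act i j hij x hx).resolve_left hxt
    rcases b.act i j hij x hx with hx1 | hx1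
    · exact absurd (h.triv i j hij x hx hx1) hxt
    · have h1 : Acts ε (x⁻¹ * w) 1 := by
        have := hx1.inv.mul hs
        rwa [inv_mul_cancel] at this
      have h2 := h.triv i j hij _ (mul_mem (inv_mem hx) hw) h1
      calc w * t * w⁻¹ = x * ((x⁻¹ * w) * t * (x⁻¹ * w)⁻¹) * x⁻¹ := by group
        _ = _ := by rw [h2, hx2]

omit [Finite G] in
theorem fv_symm (b : FSix V W ε) (t : G) (i j : Fin n) : fv W ε t i j = fv W ε t j i := by
  unfold fv
  rw [b.symm]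

omit [Finite G] in
/-- `f_13 = f_12 + f_23` -/
theorem fv_add (b : FSix V W ε) (hn : 3 ≤ n) {t : G} (h : Good W ε t) {i j k : Fin n}
    (hij : i ≠ j) (hjk : j ≠ k) (hik : i ≠ k) : fv W ε t i k = fv W ε t i j + fv W ε t j k := by
  obtain ⟨w, hw, hws⟩ := b.mov i j hij
  obtain ⟨y, hy, hys⟩ := b.mov j k hjk
  have hyN : y ∈ normalizer (V : Set G) := by
    rw [mem_normalizer_iff]
    have key : ∀ {g : G} {σ : Equiv.Perm (Fin n)}, Acts ε g σ → ∀ v ∈ V, g * v * g⁻¹ ∈ V := by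
      intro g σ hg v hv
      obtain ⟨x, rfl⟩ := b.ev.surj v hv
      rw [hg x]
      exact b.ev.mem _
    refine fun v => ⟨key hys v, fun hv => ?_⟩
    have h1 := key hys.inv _ hv
    have h2 : y⁻¹ * (y * v * y⁻¹) * y⁻¹⁻¹ = v := by group
    rwa [h2] at h1
  have hx := b.cnj _ _ hij _ hyN _ hys _ hw
  rw [swap_fix hij hik, Equiv.swap_apply_left] at hx
  have hxs : Acts ε (y * w * y⁻¹) (Equiv.swap i k) := by
    have h1 := hys.conj hws
    have h2 : Equiv.swap j k * Equiv.swap i j * (Equiv.swap j k)⁻¹ = Equiv.swap i k := by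
      have h3 := Equiv.swap_apply_apply (Equiv.swap j k) i j
      rw [swap_fix hij hik, Equiv.swap_apply_left] at h3
      exact h3.symm
    rwa [h2] at h1
  have e1 := fv_spec b h hik hx hxs
  have e2 := fv_spec b h hij hw hws
  have e3 := fv_spec b h hjk hy hys
  have e3' := fv_spec b h hjk (inv_mem hy) (by
    have := hys.inv
    rwa [Equiv.swap_inv] at this)
  -- conjugation of the pairs
  have p1 : ∀ s, w * pw (rr ε j k) s * w⁻¹ = pw (rr ε i k) s := by
    intro s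
    rcases Tv.z2 s with h0 | h0
    · rw [h0, pw_zero, pw_zero]; group
    · rw [h0, pw_one, pw_one, rr_conj hws, Equiv.swap_apply_right, swap_fix hik.symm hjk.symm]
  have p2 : ∀ s, y * pw (rr ε i j) s * y⁻¹ = pw (rr ε i k) s := by
    intro s
    rcases Tv.z2 s with h0 | h0
    · rw [h0, pw_zero, pw_zero]; group
    · rw [h0, pw_one, pw_one, rr_conj hys, Equiv.swap_apply_left, swap_fix hij hik]
  have p3 : ∀ s, y * pw (rr ε i k) s * y⁻¹ = pw (rr ε i j) s := by
    intro s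
    rcases Tv.z2 s with h0 | h0
    · rw [h0, pw_zero, pw_zero]; group
    · rw [h0, pw_one, pw_one, rr_conj hys, Equiv.swap_apply_right, swap_fix hij hik]
  have e4 : y * w * y⁻¹ * t * (y * w * y⁻¹)⁻¹ =
      t * (pw (rr ε j k) (fv W ε t j k) * pw (rr ε i k) (fv W ε t i j) *
        pw (rr ε i j) (fv W ε t j k)) := by
    calc y * w * y⁻¹ * t * (y * w * y⁻¹)⁻¹
        = y * (w * (y⁻¹ * t * y⁻¹⁻¹) * w⁻¹) * y⁻¹ := by group
      _ = y * ((w * t * w⁻¹) * (w * pw (rr ε j k) (fv W ε t j k) * w⁻¹)) * y⁻¹ := by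
          rw [e3']; group
      _ = y * (t * pw (rr ε i j) (fv W ε t i j) * pw (rr ε i k) (fv W ε t j k)) * y⁻¹ := by
          rw [e2, p1]
      _ = (y * t * y⁻¹) * (y * pw (rr ε i j) (fv W ε t i j) * y⁻¹) *
            (y * pw (rr ε i k) (fv W ε t j k) * y⁻¹) := by group
      _ = _ := by rw [e3, p2, p3]; group
  rw [e4] at e1
  have e5 := mul_left_cancel e1
  -- compare
  have hik1 := rr_ne_one b.ev hn hik
  have hij1 := rr_ne_one b.ev hn hij
  have q1 : rr ε j k * rr ε i j = rr ε i k := by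
    rw [b.ev.comm_mem (rr_mem b.ev j k) (rr_mem b.ev i j), rr_add b.ev]
  rcases Tv.z2 (fv W ε t j k) with h1 | h1 <;> rcases Tv.z2 (fv W ε t i j) with h2 | h2 <;>
    rcases Tv.z2 (fv W ε t i k) with h3 | h3 <;> rw [h1, h2, h3] at e5 <;> rw [h1, h2, h3]
  · decide
  · simp only [pw_zero, pw_one, one_mul, mul_one] at e5
    exact absurd e5.symm hik1
  · simp only [pw_zero, pw_one, one_mul, mul_one] at e5
    exact absurd e5 hik1
  · decide
  · simp only [pw_zero, pw_one, mul_one] at e5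
    rw [q1] at e5
    exact absurd e5 hik1
  · decide
  · decide
  · simp only [pw_one] at e5
    rw [mul_assoc, b.ev.comm_mem (rr_mem b.ev i k) (rr_mem b.ev i j), ← mul_assoc, q1,
      rr_sq b.ev] at e5
    exact absurd e5.symm hik1

omit [Finite G] in
/-- every good element commuting with `V` differs from a fixed one by an element of `V` -/
theorem exists_fix (b : FSix V W ε) (hn : 3 ≤ n) {t : G} (h : Good W ε t) :
    ∃ v ∈ V, ∀ i j, i ≠ j → ∀ w ∈ W i j, w * (t * v) * w⁻¹ = t * v := by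
  classical
  set o : Fin n := ⟨0, by omega⟩ with ho
  set x : Fin n → ZMod 2 := fun i => if i = o then 0 else fv W ε t o i with hx
  have hval : ∀ i j, i ≠ j → fv W ε t i j = x i + x j := by
    intro i j hij
    by_cases h1 : i = o
    · have h2 : j ≠ o := fun h2 => hij (h1.trans h2.symm)
      rw [hx]
      simp only [if_pos h1, if_neg h2, zero_add]
      rw [h1]
    · by_cases h2 : j = o
      · rw [hx]
        simp only [if_neg h1, if_pos h2, add_zero]
        rw [h2, fv_symm b]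
      · rw [hx]
        simp only [if_neg h1, if_neg h2]
        have h3 := fv_add b hn h (Ne.symm h1) hij (Ne.symm h2)
        rw [h3, ← add_assoc, Tv.z2_add, zero_add]
  have hswap : ∀ i j : Fin n, i ≠ j → x ∘ (Equiv.swap i j).symm =
      x + (x i + x j) • (Pi.single i 1 + Pi.single j 1) := by
    intro i j hij
    funext k
    rw [Function.comp_apply, Equiv.symm_swap, Pi.add_apply, Pi.smul_apply, Pi.add_apply]
    by_cases h1 : k = i
    · subst h1
      rw [Equiv.swap_apply_left, Pi.single_eq_same, Pi.single_eq_of_ne hij, add_zero, smul_eq_mul,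
        mul_one, ← add_assoc, Tv.z2_add, zero_add]
    by_cases h2 : k = j
    · subst h2
      rw [Equiv.swap_apply_right, Pi.single_eq_same, Pi.single_eq_of_ne h1, zero_add, smul_eq_mul,
        mul_one, add_comm (x i), ← add_assoc, Tv.z2_add, zero_add]
    · rw [Equiv.swap_apply_of_ne_of_ne h1 h2, Pi.single_eq_of_ne h1, Pi.single_eq_of_ne h2,
        add_zero, smul_zero, add_zero]
  have hact : ∀ i j, i ≠ j → ∀ w, Acts ε w (Equiv.swap i j) →
      w * ε x * w⁻¹ = ε x * pw (rr ε i j) (x i + x j) := by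
    intro i j hij w hw
    rw [hw x, hswap i j hij, b.ev.add]
    congr 1
    rcases Tv.z2 (x i + x j) with h1 | h1
    · rw [h1, zero_smul, pw_zero, b.ev.zero]
    · rw [h1, one_smul, pw_one, b.ev.add]
      rfl
  refine ⟨ε x, b.ev.mem x, fun i j hij w hw => ?_⟩
  rcases b.act i j hij w hw with h1 | h1
  · have h2 := h.triv i j hij w hw h1
    have h3 : w * ε x * w⁻¹ = ε x := h1 x
    calc w * (t * ε x) * w⁻¹ = (w * t * w⁻¹) * (w * ε x * w⁻¹) := by group
      _ = _ := by rw [h2, h3]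
  · have h2 := fv_spec b h hij hw h1
    have h3 := hact i j hij w h1
    have hpV : pw (rr ε i j) (x i + x j) ∈ V := by
      rcases Tv.z2 (x i + x j) with h0 | h0
      · rw [h0, pw_zero]; exact one_mem _
      · rw [h0, pw_one]; exact rr_mem b.ev i j
    calc w * (t * ε x) * w⁻¹ = (w * t * w⁻¹) * (w * ε x * w⁻¹) := by group
      _ = t * (pw (rr ε i j) (x i + x j) * ε x) * pw (rr ε i j) (x i + x j) := by
          rw [h2, h3, hval i j hij]; group
      _ = t * (ε x * pw (rr ε i j) (x i + x j)) * pw (rr ε i j) (x i + x j) := by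
          rw [b.ev.comm_mem hpV (b.ev.mem x)]
      _ = t * ε x * (pw (rr ε i j) (x i + x j) * pw (rr ε i j) (x i + x j)) := by group
      _ = t * ε x := by rw [b.ev.sq_mem hpV, mul_one]

/-- good elements of `Y` are in `V` -/
theorem good_mem (b : FSix V W ε) (hodd : Odd n) (hn : 7 ≤ n) {t : G} (ht : t ∈ YY ε)
    (h : Good W ε t) : t ∈ V := by
  obtain ⟨v, hv, hf⟩ := b.exists_fix (by omega) h
  have h1 := b.fix hodd hn (mul_mem ht (b.v_le_YY hn hv)) hf
  have h2 : t = v⁻¹ := eq_inv_of_mul_eq_one_left h1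
  rw [h2]
  exact inv_mem hv

/-- an element conjugating all points into `V` normalises `V` -/
theorem mem_norm (b : FSix V W ε) {g : G} (hg : ∀ k, g * zz ε k * g⁻¹ ∈ V) :
    g ∈ normalizer (V : Set G) := by
  apply mem_normalizer_of_map_le
  rintro _ ⟨v, hv, rfl⟩
  change g * v * g⁻¹ ∈ V
  revert v hv
  refine b.v_ind (fun v => g * v * g⁻¹ ∈ V) ?_ ?_
  · rw [mul_one, mul_inv_cancel]; exact one_mem _
  · intro k x _ hx
    have : g * (zz ε k * x) * g⁻¹ = (g * zz ε k * g⁻¹) * (g * x * g⁻¹) := by group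
    change g * (zz ε k * x) * g⁻¹ ∈ V
    rw [this]
    exact mul_mem (hg k) hx

/-- (B): `C_G(r_12^⊥) ≤ N_G(V)` -/
theorem cen_perp (b : FSix V W ε) (hodd : Odd n) (hn : 7 ≤ n) {i j : Fin n} (hij : i ≠ j) {g : G}
    (hg : ∀ k, k ≠ i → k ≠ j → g * zz ε k * g⁻¹ = zz ε k) : g ∈ normalizer (V : Set G) := by
  have hN : ∀ k l, k ≠ i → k ≠ j → l ≠ i → l ≠ j → g ∈ NN ε k l := by
    intro k l h1 h2 h3 h4
    rw [mem_NN']
    unfold rr
    calc g * (zz ε k * zz ε l) * g⁻¹ = (g * zz ε k * g⁻¹) * (g * zz ε l * g⁻¹) := by group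
      _ = _ := by rw [hg k h1 h2, hg l h3 h4]
  set z := zz ε i * (g * zz ε i * g⁻¹) with hz
  have hzU : ∀ k l, k ≠ i → k ≠ j → l ≠ i → l ≠ j → z ∈ UU ε k l := by
    intro k l h1 h2 h3 h4
    exact mul_mem (zz_mem_UU (Ne.symm h1) (Ne.symm h3))
      (UU_normal (hN k l h1 h2 h3 h4) (zz_mem_UU (Ne.symm h1) (Ne.symm h3)))
  have hgood : Good W ε z := by
    constructor
    · intro a c hac w hw hw1
      obtain ⟨k, l, hkl, ⟨k1, k2, k3, k4⟩, l1, l2, l3, l4⟩ := exists_off (by omega) i j a c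
      exact one b.toFBase hodd hn hkl hac (Ne.symm k3) (Ne.symm l3) (Ne.symm k4) (Ne.symm l4) hw hw1
        (hzU k l k1 k2 l1 l2)
    · intro a c hac w hw
      obtain ⟨k, l, hkl, ⟨k1, k2, k3, k4⟩, l1, l2, l3, l4⟩ := exists_off (by omega) i j a c
      exact b.tra k l a c hkl hac k3 k4 l3 l4 _ (hzU k l k1 k2 l1 l2) _ hw
  obtain ⟨k0, l0, hkl0, ⟨k1, k2, -, -⟩, l1, l2, -, -⟩ := exists_off (by omega) i j i j
  have hzV := b.good_mem hodd hn (uu_le_YY hkl0 (hzU k0 l0 k1 k2 l1 l2)) hgood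
  have hi : g * zz ε i * g⁻¹ ∈ V := by
    have h1 : g * zz ε i * g⁻¹ = (zz ε i)⁻¹ * z := by rw [hz]; group
    rw [h1]
    exact mul_mem (inv_mem (zz_mem b.ev i)) hzV
  have hr : g * rr ε i j * g⁻¹ = rr ε i j := by
    refine compl_rr b.ev hij (fun _ x => g * x * g⁻¹ = x) (by group) ?_
    intro k h1 h2 _ x hx
    calc g * (zz ε k * x) * g⁻¹ = (g * zz ε k * g⁻¹) * (g * x * g⁻¹) := by group
      _ = _ := by rw [hg k h1 h2, hx]
  refine b.mem_norm fun k => ?_
  by_cases h1 : k = i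
  · subst h1; exact hi
  by_cases h2 : k = j
  · subst h2
    have h3 : zz ε k = zz ε i * rr ε i k := by
      unfold rr
      rw [← mul_assoc, zz_sq b.ev, one_mul]
    have h4 : g * zz ε k * g⁻¹ = (g * zz ε i * g⁻¹) * (g * rr ε i k * g⁻¹) := by
      rw [h3]; group
    rw [h4, hr]
    exact mul_mem hi (rr_mem b.ev i k)
  · rw [hg k h1 h2]
    exact zz_mem b.ev k

omit [Finite G] in
theorem norm_o2 (L : Subgroup G) : normalizer (L : Set G) ≤ normalizer (o2 L : Set G) := by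
  have key : ∀ g ∈ normalizer (L : Set G), ∀ x ∈ o2 L, g * x * g⁻¹ ∈ o2 L := by
    intro g hg x hx
    have h1 : (o2 L).map (MulAut.conj g).toMonoidHom ≤ o2 L := by
      apply le_o2
      · rintro _ ⟨y, hy, rfl⟩
        exact (mem_normalizer_iff.mp hg y).mp (o2_le L hy)
      · exact (o2_isPGroup L).map _
      · intro l hl
        rw [mem_normalizer_iff]
        have key2 : ∀ l ∈ L, ∀ y ∈ (o2 L).map (MulAut.conj g).toMonoidHom,
            l * y * l⁻¹ ∈ (o2 L).map (MulAut.conj g).toMonoidHom := by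
          rintro l hl _ ⟨y, hy, rfl⟩
          have h2 : g⁻¹ * l * g ∈ L := by
            have := (mem_normalizer_iff.mp (inv_mem hg) l).mp hl
            rwa [inv_inv] at this
          refine ⟨(g⁻¹ * l * g) * y * (g⁻¹ * l * g)⁻¹,
            (mem_normalizer_iff.mp (le_normalizer_o2 L h2) y).mp hy, ?_⟩
          change g * ((g⁻¹ * l * g) * y * (g⁻¹ * l * g)⁻¹) * g⁻¹ = l * (g * y * g⁻¹) * l⁻¹
          group
        refine fun y => ⟨key2 l hl y, fun hy => ?_⟩
        have := key2 l⁻¹ (inv_mem hl) _ hy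
        have h3 : l⁻¹ * (l * y * l⁻¹) * l⁻¹⁻¹ = y := by group
        rwa [h3] at this
    exact h1 ⟨x, hx, rfl⟩
  intro g hg
  rw [mem_normalizer_iff]
  refine fun x => ⟨key g hg x, fun hx => ?_⟩
  have := key g⁻¹ (inv_mem hg) _ hx
  have e : g⁻¹ * (g * x * g⁻¹) * g⁻¹⁻¹ = x := by group
  rwa [e] at this

omit [Finite G] in
theorem norm_cen (X : Subgroup G) :
    normalizer (X : Set G) ≤ normalizer ((centralizer (X : Set G) : Subgroup G) : Set G) := by
  have key : ∀ g ∈ normalizer (X : Set G), ∀ x ∈ centralizer (X : Set G),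
      g * x * g⁻¹ ∈ centralizer (X : Set G) := by
    intro g hg x hx
    rw [mem_centralizer_iff] at hx ⊢
    intro y hy
    have h1 : g⁻¹ * y * g ∈ X := by
      have := (mem_normalizer_iff.mp (inv_mem hg) y).mp hy
      rwa [inv_inv] at this
    have h2 := hx _ h1
    calc y * (g * x * g⁻¹) = g * ((g⁻¹ * y * g) * x) * g⁻¹ := by group
      _ = g * (x * (g⁻¹ * y * g)) * g⁻¹ := by rw [h2]
      _ = _ := by group
  intro g hg
  rw [mem_normalizer_iff]
  refine fun x => ⟨key g hg x, fun hx => ?_⟩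
  have := key g⁻¹ (inv_mem hg) _ hx
  have e : g⁻¹ * (g * x * g⁻¹) * g⁻¹⁻¹ = x := by group
  rwa [e] at this

omit [Finite G] in
theorem uu_norm (i j : Fin n) : NN ε i j ≤ normalizer (UU ε i j : Set G) := by
  intro g hg
  rw [mem_normalizer_iff]
  refine fun x => ⟨UU_normal hg, fun hx => ?_⟩
  have := UU_normal (inv_mem hg) hx
  have e : g⁻¹ * (g * x * g⁻¹) * g⁻¹⁻¹ = x := by group
  rwa [e] at this

omit [Finite G] in
theorem uu_two (b : FSix V W ε) {i j : Fin n} (hij : i ≠ j) : IsPGroup 2 (UU ε i j) := by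
  intro u
  refine ⟨1, ?_⟩
  rw [pow_one, pow_two]
  exact Subtype.ext (uu_sq b.toFBase hij u.2)

omit [Finite G] in
theorem uu_le_NN (b : FSix V W ε) {i j : Fin n} (hij : i ≠ j) (k l : Fin n) :
    UU ε i j ≤ NN ε k l := fun _ hu => cenV_NN b.toFBase k l (uu_cenV b.toFBase hij hu)

/-- (C), the pairs which share one letter -/
theorem share_le (b : FSix V W ε) (hodd : Odd n) (hn : 7 ≤ n) {a c d : Fin n} (hac : a ≠ c)
    (had : a ≠ d) : UU ε a c ≤ o2 (NN ε a d) := by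
  set C : Subgroup G := NN ε a d ⊓ centralizer (UU ε a d : Set G) with hC
  have hCV : C ≤ normalizer (V : Set G) := by
    intro g hg
    refine b.cen_perp hodd hn had fun k h1 h2 => ?_
    have h3 := mem_centralizer_iff.mp hg.2 _ (zz_mem_UU (ε := ε) h1 h2)
    rw [← h3, mul_inv_cancel_right]
  have hNC : NN ε a d ≤ normalizer (C : Set G) := by
    intro g hg
    have h1 := norm_cen _ (uu_norm (ε := ε) a d hg)
    rw [mem_normalizer_iff] at h1 ⊢
    intro x
    rw [hC]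
    constructor
    · rintro ⟨h2, h3⟩
      exact Subgroup.mem_inf.mpr ⟨mul_mem (mul_mem hg h2) (inv_mem hg), (h1 x).mp h3⟩
    · rintro ⟨h2, h3⟩
      refine Subgroup.mem_inf.mpr ⟨?_, (h1 x).mpr h3⟩
      have h4 := mul_mem (mul_mem (inv_mem hg) h2) hg
      have h5 : g⁻¹ * (g * x * g⁻¹) * g = x := by group
      rwa [h5] at h4
  have h1 : UU ε a c ≤ o2 (centralizer (V : Set G)) := by
    apply le_o2
    · exact fun _ hu => uu_cenV b.toFBase hac hu
    · exact b.uu_two hac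
    · exact fun _ hx => uu_norm a c (cenV_NN b.toFBase a c hx)
  have h2 : UU ε a c ≤ C := by
    refine le_inf (b.uu_le_NN hac a d) fun u hu => ?_
    rw [mem_centralizer_iff]
    intro y hy
    exact b.comm_all hodd hn had hac hy hu
  have h3 : o2 (centralizer (V : Set G)) ⊓ C ≤ o2 C := by
    apply le_o2 inf_le_right ((o2_isPGroup _).to_le inf_le_left)
    intro g hg
    have h4 := norm_o2 _ (norm_cen V (hCV hg))
    rw [mem_normalizer_iff] at h4 ⊢
    intro x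
    constructor
    · rintro ⟨h5, h6⟩
      exact Subgroup.mem_inf.mpr ⟨(h4 x).mp h5, mul_mem (mul_mem hg h6) (inv_mem hg)⟩
    · rintro ⟨h5, h6⟩
      refine Subgroup.mem_inf.mpr ⟨(h4 x).mpr h5, ?_⟩
      have h7 := mul_mem (mul_mem (inv_mem hg) h6) hg
      have h8 : g⁻¹ * (g * x * g⁻¹) * g = x := by group
      rwa [h8] at h7
  have h4 : o2 C ≤ o2 (NN ε a d) :=
    le_o2 ((o2_le C).trans inf_le_left) (o2_isPGroup C) (hNC.trans (norm_o2 C))
  exact (le_inf h1 h2).trans (h3.trans h4)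

/-- (C) -/
theorem all_le (b : FSix V W ε) (hodd : Odd n) (hn : 7 ≤ n) {i j k l : Fin n} (hij : i ≠ j)
    (hkl : k ≠ l) : UU ε i j ≤ o2 (NN ε k l) := by
  have hself : ∀ i j : Fin n, i ≠ j → UU ε i j ≤ o2 (NN ε i j) := fun i j h =>
    le_o2 (b.uu_le_NN h i j) (b.uu_two h) (uu_norm i j)
  by_cases h1 : k = i
  · subst h1
    exact b.share_le hodd hn hij hkl
  by_cases h2 : l = i
  · subst h2
    rw [NN_symm b.ev]
    exact b.share_le hodd hn hij hkl.symm
  by_cases h3 : k = j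
  · subst h3
    rw [UU_symm b.ev]
    exact b.share_le hodd hn hij.symm hkl
  by_cases h4 : l = j
  · subst h4
    rw [UU_symm b.ev, NN_symm b.ev]
    exact b.share_le hodd hn hij.symm hkl.symm
  exact b.hq i j k l hij hkl (Ne.symm h1) (Ne.symm h2) (Ne.symm h3) (Ne.symm h4)

/-- (D), the exchange -/
theorem exch (b : FSix V W ε) (hodd : Odd n) (hn : 7 ≤ n) {i j k : Fin n} (hij : i ≠ j)
    (hik : i ≠ k) (hjk : j ≠ k) {y : G} (hy : y ∈ UU ε i j) : ∃ v ∈ V, y * v ∈ UU ε k j := by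
  obtain ⟨w, hw, hws⟩ := b.mov i k hik
  have h1 := UU_conj hws hy
  rw [Equiv.swap_apply_left, swap_fix hij.symm hjk] at h1
  rcases b.qc i k hik y (b.all_le hodd hn hij hik hy) w hw with h2 | h2
  · rw [h2] at h1
    exact ⟨1, one_mem _, by rwa [mul_one]⟩
  · rw [h2] at h1
    exact ⟨_, rr_mem b.ev i k, h1⟩

theorem move (b : FSix V W ε) (hodd : Odd n) (hn : 7 ≤ n) {i j k l : Fin n} (hij : i ≠ j)
    (hkl : k ≠ l) {y : G} (hy : y ∈ UU ε i j) : ∃ v ∈ V, y * v ∈ UU ε k l := by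
  -- first make `k` a letter of the pair
  have key : ∀ {i j : Fin n}, i ≠ j → i ≠ l → ∀ {y : G}, y ∈ UU ε i j → i = k →
      ∃ v ∈ V, y * v ∈ UU ε k l := by
    intro i j hij hil y hy hik
    subst hik
    by_cases h1 : j = l
    · subst h1
      exact ⟨1, one_mem _, by rwa [mul_one]⟩
    · rw [UU_symm b.ev] at hy ⊢
      exact b.exch hodd hn hij.symm h1 hil hy
  by_cases h1 : i = k
  · exact key hij (h1 ▸ hkl) hy h1
  by_cases h2 : j = k
  · rw [UU_symm b.ev] at hy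
    exact key hij.symm (h2 ▸ hkl) hy h2
  · obtain ⟨v, hv, h3⟩ := b.exch hodd hn hij h1 h2 hy
    obtain ⟨v', hv', h4⟩ := key (i := k) (j := j) (Ne.symm h2) hkl h3 rfl
    exact ⟨v * v', mul_mem hv hv', by rwa [← mul_assoc]⟩

/-- (D): `U_ij ≤ V` -/
theorem uu_le_V (b : FSix V W ε) (hodd : Odd n) (hn : 7 ≤ n) {i j : Fin n} (hij : i ≠ j) :
    UU ε i j ≤ V := by
  intro y hy
  refine b.good_mem hodd hn (uu_le_YY hij hy) ⟨?_, ?_⟩
  · intro a c hac w hw hw1
    obtain ⟨k, l, hkl, ⟨k1, k2, -, -⟩, l1, l2, -, -⟩ := exists_off (by omega) a c a c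
    obtain ⟨v, hv, h1⟩ := b.move hodd hn hij hkl hy
    have h2 := one b.toFBase hodd hn hkl hac (Ne.symm k1) (Ne.symm l1) (Ne.symm k2) (Ne.symm l2)
      hw hw1 h1
    have h3 : w * v * w⁻¹ = v := by
      obtain ⟨x, rfl⟩ := b.ev.surj v hv
      exact hw1 x
    have h4 : w * (y * v) * w⁻¹ = (w * y * w⁻¹) * (w * v * w⁻¹) := by group
    rw [h4, h3] at h2
    exact mul_right_cancel h2
  · intro a c hac w hw
    exact b.qc a c hac y (b.all_le hodd hn hij hac hy) w hw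

/-- (E), first step -/
theorem two_norm (b : FSix V W ε) (hodd : Odd n) (hn : 7 ≤ n) {i j k l : Fin n} (hij : i ≠ j)
    (hkl : k ≠ l) (ki : k ≠ i) (kj : k ≠ j) (li : l ≠ i) (lj : l ≠ j) {g : G}
    (h1 : g ∈ NN ε i j) (h2 : g ∈ NN ε k l) : g ∈ normalizer (V : Set G) := by
  refine b.mem_norm fun m => ?_
  by_cases hm : m ≠ i ∧ m ≠ j
  · exact b.uu_le_V hodd hn hij (UU_normal h1 (zz_mem_UU hm.1 hm.2))
  · have hm' : m ≠ k ∧ m ≠ l := by
      constructor
      · rintro rfl; exact hm ⟨ki, kj⟩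
      · rintro rfl; exact hm ⟨li, lj⟩
    exact b.uu_le_V hodd hn hkl (UU_normal h2 (zz_mem_UU hm'.1 hm'.2))

/-- the elements of `U_ij` are fixed by every permutation fixing the letters off `i`, `j` -/
theorem uu_fixed (b : FSix V W ε) (hodd : Odd n) (hn : 7 ≤ n) {i j : Fin n} (hij : i ≠ j) {u x : G}
    (hu : u ∈ UU ε i j) {σ : Equiv.Perm (Fin n)} (hx : Acts ε x σ)
    (hs : ∀ m, m ≠ i → m ≠ j → σ m = m) : x * u * x⁻¹ = u := by
  obtain ⟨y, rfl⟩ := b.ev.surj u (b.uu_le_V hodd hn hij hu)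
  obtain ⟨w, hw, hws⟩ := b.mov i j hij
  have h1 := b.cen i j hij _ hu w hw
  have h2 : ε (y ∘ (Equiv.swap i j).symm) = ε y := by
    rw [← hws y, ← h1, mul_inv_cancel_right]
  have hyij : y i = y j := by
    rcases b.ev.eq_iff.mp h2 with h3 | h3
    · have h4 := congrFun h3 i
      rw [Function.comp_apply, Equiv.symm_swap, Equiv.swap_apply_left] at h4
      exact h4.symm
    · obtain ⟨k, l, hkl, ⟨k1, k2, -, -⟩, -⟩ := exists_off (by omega) i j i j
      have h4 := congrFun h3 k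
      rw [Function.comp_apply, Equiv.symm_swap, Equiv.swap_apply_of_ne_of_ne k1 k2,
        Pi.add_apply, Pi.one_apply] at h4
      exact absurd (left_eq_add.mp h4) (by decide)
  rw [hx y]
  congr 1
  funext m
  rw [Function.comp_apply]
  have hσi : ∀ m, m ≠ i → m ≠ j → σ.symm m = m := by
    intro m h3 h4
    rw [Equiv.symm_apply_eq]
    exact (hs m h3 h4).symm
  by_cases h3 : m = i ∨ m = j
  · have h4 : σ.symm m = i ∨ σ.symm m = j := by
      by_contra hc
      rw [not_or] at hc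
      have h5 := hs _ hc.1 hc.2
      rw [Equiv.apply_symm_apply] at h5
      rw [← h5] at hc
      rcases h3 with h3 | h3
      · exact hc.1 h3
      · exact hc.2 h3
    rcases h3 with h3 | h3 <;> rcases h4 with h4 | h4 <;> rw [h4, h3]
    · exact hyij.symm
    · exact hyij
  · rw [not_or] at h3
    rw [hσi m h3.1 h3.2]

/-- (E): `N_ij ≤ N_G(V)` -/
theorem nn_le (b : FSix V W ε) (hodd : Odd n) (hn : 7 ≤ n) {i j : Fin n} (hij : i ≠ j) :
    NN ε i j ≤ normalizer (V : Set G) := by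
  intro g hg
  obtain ⟨k, l, hkl, ⟨ki, kj, -, -⟩, li, lj, -, -⟩ := exists_off (by omega) i j i j
  obtain ⟨w, hw, hws⟩ := b.mov k l hkl
  set c := g * rr ε k l * g⁻¹ with hc
  set x := g * w * g⁻¹ with hx
  have wit : Wit ε i j c g k l := ⟨hg, hkl, ki, kj, li, lj, hc⟩
  have hxc : Wc W ε i j c x := by
    rw [wc_iff b.toFBase wit]
    have : g⁻¹ * x * g = w := by rw [hx]; group
    rwa [this]
  have hxN := wc_NN b.toFBase hxc
  have hcne := kk_ne b.toFBase (by omega) (wc_kk hxc)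
  -- `x` commutes with a pair `r_mm'`
  have hpair : ∀ m m', m ≠ m' → m ≠ i → m ≠ j → m' ≠ i → m' ≠ j →
      (x * zz ε m * x⁻¹ = zz ε m ↔ x * zz ε m' * x⁻¹ = zz ε m') →
      x ∈ normalizer (V : Set G) := by
    intro m m' hmm mi mj mi' mj' hiff
    have h1 := wc_act b.toFBase hij hxc (zz_mem_UU (ε := ε) mi mj)
    have h2 := wc_act b.toFBase hij hxc (zz_mem_UU (ε := ε) mi' mj')
    have h3 : x ∈ NN ε m m' := by
      rw [mem_NN']
      unfold rr
      have h4 : x * (zz ε m * zz ε m') * x⁻¹ = (x * zz ε m * x⁻¹) * (x * zz ε m' * x⁻¹) := by group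
      rw [h4]
      by_cases h5 : x * zz ε m * x⁻¹ = zz ε m
      · rw [h5, hiff.mp h5]
      · rw [h1.resolve_left h5, h2.resolve_left (fun h => h5 (hiff.mpr h))]
        have h6 := uu_comm b.toFBase hij (kk_mem_UU (wc_kk hxc)) (zz_mem_UU (ε := ε) mi' mj')
        calc zz ε m * c * (zz ε m' * c) = zz ε m * (c * zz ε m') * c := by group
          _ = zz ε m * zz ε m' * (c * c) := by rw [h6]; group
          _ = _ := by rw [kk_sq b.toFBase (wc_kk hxc), mul_one]
    exact b.two_norm hodd hn hij hmm mi mj mi' mj' hxN h3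
  have hxV : x ∈ normalizer (V : Set G) := by
    obtain ⟨p, q, hpq, ⟨p1, p2, p3, -⟩, q1, q2, q3, -⟩ := exists_off (by omega) i j k k
    by_cases h1 : x * zz ε p * x⁻¹ = zz ε p
    · by_cases h2 : x * zz ε q * x⁻¹ = zz ε q
      · exact hpair p q hpq p1 p2 q1 q2 ⟨fun _ => h2, fun _ => h1⟩
      · by_cases h3 : x * zz ε k * x⁻¹ = zz ε k
        · exact hpair p k p3 p1 p2 ki kj ⟨fun _ => h3, fun _ => h1⟩
        · exact hpair q k q3 q1 q2 ki kj ⟨fun h => absurd h h2, fun h => absurd h h3⟩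
    · by_cases h2 : x * zz ε q * x⁻¹ = zz ε q
      · by_cases h3 : x * zz ε k * x⁻¹ = zz ε k
        · exact hpair q k q3 q1 q2 ki kj ⟨fun _ => h3, fun _ => h2⟩
        · exact hpair p k p3 p1 p2 ki kj ⟨fun h => absurd h h1, fun h => absurd h h3⟩
      · exact hpair p q hpq p1 p2 q1 q2 ⟨fun h => absurd h h1, fun h => absurd h h2⟩
  obtain ⟨σ, hσ⟩ := b.ev.perm x hxV
  -- `x` moves a point off `i`, `j`
  obtain ⟨m, mi, mj, hm⟩ : ∃ m, m ≠ i ∧ m ≠ j ∧ σ m ≠ m := by
    by_contra hno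
    push Not at hno
    have h1 := b.uu_fixed hodd hn hij (UU_normal hg (zz_mem_UU (ε := ε) ki kj)) hσ
      (fun m h1 h2 => hno m h1 h2)
    have h2 : x * (g * zz ε k * g⁻¹) * x⁻¹ = g * (w * zz ε k * w⁻¹) * g⁻¹ := by rw [hx]; group
    rw [h2, zz_conj hws, Equiv.swap_apply_left] at h1
    have h3 : zz ε l = zz ε k := mul_left_cancel (mul_right_cancel h1)
    exact hkl (b.ev.single_inj (by omega) h3.symm)
  have hcm : c = rr ε m (σ m) := by
    rcases wc_act b.toFBase hij hxc (zz_mem_UU (ε := ε) mi mj) with h1 | h1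
    · rw [zz_conj hσ] at h1
      exact absurd (b.ev.single_inj (by omega) h1) hm
    · rw [zz_conj hσ] at h1
      unfold rr
      rw [h1, ← mul_assoc, zz_sq b.ev, one_mul]
  -- `σ m` is off `i`, `j`
  obtain ⟨y, hy, hys⟩ := b.mov i j hij
  have hcy : y * c * y⁻¹ = c := by
    rw [← b.cen i j hij _ (kk_mem_UU (wc_kk hxc)) y hy, mul_inv_cancel_right]
  rw [hcm, rr_conj hys, swap_fix mi mj] at hcy
  have hcy2 : zz ε (Equiv.swap i j (σ m)) = zz ε (σ m) := mul_left_cancel hcy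
  have hcy3 := b.ev.single_inj (by omega) hcy2
  have si : σ m ≠ i := by
    intro h
    rw [h, Equiv.swap_apply_left] at hcy3
    exact hij hcy3.symm
  have sj : σ m ≠ j := by
    intro h
    rw [h, Equiv.swap_apply_right] at hcy3
    exact hij hcy3
  obtain ⟨τ, t1, t2, t3⟩ := exists_perm hkl (Ne.symm hm)
  obtain ⟨s, hs, hss⟩ := b.ev.full τ
  have hsN : s ∈ NN ε i j := by
    rw [mem_NN', rr_conj hss, t3 i (Ne.symm ki) (Ne.symm li) (Ne.symm mi) (Ne.symm si),
      t3 j (Ne.symm kj) (Ne.symm lj) (Ne.symm mj) (Ne.symm sj)]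
  have h1 : s * rr ε k l * s⁻¹ = c := by rw [rr_conj hss, t1, t2, hcm]
  have h2 : s⁻¹ * g ∈ NN ε k l := by
    rw [mem_NN']
    calc s⁻¹ * g * rr ε k l * (s⁻¹ * g)⁻¹ = s⁻¹ * (g * rr ε k l * g⁻¹) * s := by group
      _ = s⁻¹ * (s * rr ε k l * s⁻¹) * s := by rw [← hc, h1]
      _ = rr ε k l := by group
  have h3 := b.two_norm hodd hn hij hkl ki kj li lj (mul_mem (inv_mem hsN) hg) h2
  have h4 := mul_mem hs h3
  rwa [mul_inv_cancel_left] at h4

end FSix

end Cfsg.Agent.Omega.NSix.Fam.End
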