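import Cfsg.Agent.Omega.NSix.Tv
import Cfsg.Agent.Omega.NSix.Fam.Base

/-!
# OMEGA N6, #13256 (3): `e = 1`

`One.one`: for `n ≥ 7` odd the elements of `W_kl` centralising `V` centralise `U_ij`
(`{i, j}`, `{k, l}` disjoint).
-/

set_option autoImplicit false

namespace Cfsg.Agent.Omega.NSix.Fam.One

open Subgroup Cfsg.Agent.Omega.S5.Def Cfsg.Agent.Omega.NSix.Base Cfsg.Agent.Omega.NSix.Basic
open Cfsg.Agent.Omega.NSix.Fam.Base
open Cfsg.Agent.Omega.NSix.Tv

universe u

variable {G : Type u} [Group G] {n : ℕ} {V : Subgroup G} {W : Fin n → Fin n → Subgroup G} {ε : (Fin n → ZMod 2) → G}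

/-- `(g, k, l)` is a witness of `c ∈ K` -/
structure Wit (ε : (Fin n → ZMod 2) → G) (i j : Fin n) (c g : G) (k l : Fin n) : Prop where
  mem : g ∈ NN ε i j
  ne : k ≠ l
  ki : k ≠ i
  kj : k ≠ j
  li : l ≠ i
  lj : l ≠ j
  eq : c = g * rr ε k l * g⁻¹

/-- `K = r_34 ^ N_12` -/
def KK (ε : (Fin n → ZMod 2) → G) (i j : Fin n) (c : G) : Prop := ∃ g k l, Wit ε i j c g k l

/-- `W_c` -/
def Wc (W : Fin n → Fin n → Subgroup G) (ε : (Fin n → ZMod 2) → G) (i j : Fin n) (c x : G) : Prop :=
  ∃ g k l, Wit ε i j c g k l ∧ g⁻¹ * x * g ∈ W k l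

variable {i j : Fin n}

theorem wc_iff (b : FBase V W ε) {c g x : G} {k l : Fin n} (w : Wit ε i j c g k l) :
    Wc W ε i j c x ↔ g⁻¹ * x * g ∈ W k l := by
  constructor
  · rintro ⟨g', k', l', w', hx⟩
    obtain ⟨σ, h1, h2, -⟩ := exists_perm w'.ne w.ne
    obtain ⟨m, hm, hs⟩ := b.ev.full σ
    have h3 := b.cnj _ _ w'.ne _ hm _ hs _ hx
    rw [h1, h2] at h3
    have h4 : m * rr ε k' l' * m⁻¹ = rr ε k l := by rw [rr_conj hs, h1, h2]
    have h5 : g⁻¹ * g' * m⁻¹ ∈ NN ε k l := by
      rw [mem_NN']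
      calc g⁻¹ * g' * m⁻¹ * rr ε k l * (g⁻¹ * g' * m⁻¹)⁻¹
          = g⁻¹ * (g' * (m⁻¹ * rr ε k l * m) * g'⁻¹) * g := by group
        _ = g⁻¹ * (g' * rr ε k' l' * g'⁻¹) * g := by rw [← h4]; group
        _ = g⁻¹ * c * g := by rw [← w'.eq]
        _ = rr ε k l := by rw [w.eq]; group
    have h6 := b.nrm _ _ w.ne _ h5 _ h3
    have h7 : g⁻¹ * g' * m⁻¹ * (m * (g'⁻¹ * x * g') * m⁻¹) * (g⁻¹ * g' * m⁻¹)⁻¹ =
        g⁻¹ * x * g := by group
    rwa [h7] at h6
  · intro hx
    exact ⟨g, k, l, w, hx⟩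

theorem Wit.conj {c g h : G} {k l : Fin n} (w : Wit ε i j c g k l) (hh : h ∈ NN ε i j) :
    Wit ε i j (h * c * h⁻¹) (h * g) k l where
  mem := mul_mem hh w.mem
  ne := w.ne
  ki := w.ki
  kj := w.kj
  li := w.li
  lj := w.lj
  eq := by rw [w.eq]; group

theorem kk_conj {c h : G} (hc : KK ε i j c) (hh : h ∈ NN ε i j) : KK ε i j (h * c * h⁻¹) := by
  obtain ⟨g, k, l, w⟩ := hc
  exact ⟨_, _, _, w.conj hh⟩

theorem wc_conj {c x h : G} (hx : Wc W ε i j c x) (hh : h ∈ NN ε i j) :
    Wc W ε i j (h * c * h⁻¹) (h * x * h⁻¹) := by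
  obtain ⟨g, k, l, w, hx⟩ := hx
  refine ⟨_, _, _, w.conj hh, ?_⟩
  have : (h * g)⁻¹ * (h * x * h⁻¹) * (h * g) = g⁻¹ * x * g := by group
  rwa [this]

theorem wc_kk {c x : G} (hx : Wc W ε i j c x) : KK ε i j c := by
  obtain ⟨g, k, l, w, -⟩ := hx
  exact ⟨g, k, l, w⟩

theorem wc_one {c : G} (hc : KK ε i j c) : Wc W ε i j c 1 := by
  obtain ⟨g, k, l, w⟩ := hc
  refine ⟨g, k, l, w, ?_⟩
  have : g⁻¹ * 1 * g = 1 := by group
  rw [this]
  exact one_mem _

theorem wc_mul (b : FBase V W ε) {c x y : G} (hx : Wc W ε i j c x) (hy : Wc W ε i j c y) :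
    Wc W ε i j c (x * y) := by
  obtain ⟨g, k, l, w, hx⟩ := hx
  rw [wc_iff b w] at hy ⊢
  have : g⁻¹ * (x * y) * g = (g⁻¹ * x * g) * (g⁻¹ * y * g) := by group
  rw [this]
  exact mul_mem hx hy

theorem wc_inv {c x : G} (hx : Wc W ε i j c x) : Wc W ε i j c x⁻¹ := by
  obtain ⟨g, k, l, w, hx⟩ := hx
  refine ⟨g, k, l, w, ?_⟩
  have : g⁻¹ * x⁻¹ * g = (g⁻¹ * x * g)⁻¹ := by group
  rw [this]
  exact inv_mem hx

/-- elements of `W_kl` commute with `r_kl` -/
theorem ww_rr (b : FBase V W ε) {k l : Fin n} (hkl : k ≠ l) {w : G} (hw : w ∈ W k l) :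
    w * rr ε k l * w⁻¹ = rr ε k l := by
  rcases b.act k l hkl w hw with h | h
  · rw [rr_conj h]; rfl
  · rw [rr_conj h, Equiv.swap_apply_left, Equiv.swap_apply_right, rr_symm b.ev]

/-- elements of `W_kl` commute with the points different from `k`, `l` -/
theorem ww_zz (b : FBase V W ε) {k l : Fin n} (hkl : k ≠ l) {w : G} (hw : w ∈ W k l)
    {m : Fin n} (h1 : m ≠ k) (h2 : m ≠ l) : w * zz ε m * w⁻¹ = zz ε m := by
  rcases b.act k l hkl w hw with h | h
  · rw [zz_conj h]; rfl
  · rw [zz_conj h, Equiv.swap_apply_of_ne_of_ne h1 h2]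

theorem ww_le_NN (b : FBase V W ε) {k l : Fin n} (hkl : k ≠ l) (ki : k ≠ i) (kj : k ≠ j)
    (li : l ≠ i) (lj : l ≠ j) {w : G} (hw : w ∈ W k l) : w ∈ NN ε i j := by
  rw [mem_NN']
  unfold rr
  calc w * (zz ε i * zz ε j) * w⁻¹ = (w * zz ε i * w⁻¹) * (w * zz ε j * w⁻¹) := by group
    _ = _ := by rw [ww_zz b hkl hw (Ne.symm ki) (Ne.symm li), ww_zz b hkl hw (Ne.symm kj) (Ne.symm lj)]

theorem wc_NN (b : FBase V W ε) {c x : G} (hx : Wc W ε i j c x) : x ∈ NN ε i j := by
  obtain ⟨g, k, l, w, hx⟩ := hx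
  have h1 := ww_le_NN b w.ne w.ki w.kj w.li w.lj hx
  have h2 := mul_mem (mul_mem w.mem h1) (inv_mem w.mem)
  have : g * (g⁻¹ * x * g) * g⁻¹ = x := by group
  rwa [this] at h2

theorem wc_cen (b : FBase V W ε) {c x : G} (hx : Wc W ε i j c x) : x * c * x⁻¹ = c := by
  obtain ⟨g, k, l, w, hx⟩ := hx
  have h1 := ww_rr b w.ne hx
  calc x * c * x⁻¹ = g * ((g⁻¹ * x * g) * rr ε k l * (g⁻¹ * x * g)⁻¹) * g⁻¹ := by
        rw [w.eq]; group
    _ = c := by rw [h1, w.eq]

theorem kk_mem_UU {c : G} (hc : KK ε i j c) : c ∈ UU ε i j := by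
  obtain ⟨g, k, l, w⟩ := hc
  rw [w.eq]
  exact UU_normal w.mem (rr_mem_UU w.ki w.kj w.li w.lj)

theorem kk_sq (b : FBase V W ε) {c : G} (hc : KK ε i j c) : c * c = 1 := by
  obtain ⟨g, k, l, w⟩ := hc
  calc c * c = g * (rr ε k l * rr ε k l) * g⁻¹ := by rw [w.eq]; group
    _ = 1 := by rw [rr_sq b.ev]; group

theorem kk_ne (b : FBase V W ε) (hn : 3 ≤ n) {c : G} (hc : KK ε i j c) : c ≠ 1 := by
  obtain ⟨g, k, l, w⟩ := hc
  intro h0
  apply rr_ne_one b.ev hn w.ne
  calc rr ε k l = g⁻¹ * c * g := by rw [w.eq]; group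
    _ = 1 := by rw [h0]; group

theorem wc_act (b : FBase V W ε) (hij : i ≠ j) {c x u : G} (hx : Wc W ε i j c x)
    (hu : u ∈ UU ε i j) : x * u * x⁻¹ = u ∨ x * u * x⁻¹ = u * c := by
  obtain ⟨g, k, l, w, hx⟩ := hx
  have h0 : g⁻¹ * u * g ∈ UU ε i j := by
    have := UU_normal (inv_mem w.mem) hu
    rwa [inv_inv] at this
  rcases b.tra i j k l hij w.ne (Ne.symm w.ki) (Ne.symm w.li) (Ne.symm w.kj) (Ne.symm w.lj) _ h0 _ hx
    with h | h
  · left
    calc x * u * x⁻¹ = g * ((g⁻¹ * x * g) * (g⁻¹ * u * g) * (g⁻¹ * x * g)⁻¹) * g⁻¹ := by group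
      _ = u := by rw [h]; group
  · right
    calc x * u * x⁻¹ = g * ((g⁻¹ * x * g) * (g⁻¹ * u * g) * (g⁻¹ * x * g)⁻¹) * g⁻¹ := by group
      _ = u * c := by rw [h, w.eq]; group

/-! ### `U` is elementary abelian -/

theorem uu_comm (b : FBase V W ε) (hij : i ≠ j) {u v : G} (hu : u ∈ UU ε i j) (hv : v ∈ UU ε i j) :
    u * v = v * u :=
  b.cen i j hij u hu v (b.uu_le hij hv)

theorem uu_sq (b : FBase V W ε) (hij : i ≠ j) {u : G} (hu : u ∈ UU ε i j) : u * u = 1 := by
  have hc := fun {u v : G} (hu : u ∈ UU ε i j) (hv : v ∈ UU ε i j) => uu_comm b hij hu hv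
  unfold UU at hu
  induction hu using closure_induction with
  | mem x hx =>
    obtain ⟨g, -, k, -, -, rfl⟩ := hx
    calc g * zz ε k * g⁻¹ * (g * zz ε k * g⁻¹) = g * (zz ε k * zz ε k) * g⁻¹ := by group
      _ = 1 := by rw [zz_sq b.ev]; group
  | one => rw [one_mul]
  | mul x y hx hy h1 h2 =>
    calc x * y * (x * y) = x * (y * x) * y := by group
      _ = x * (x * y) * y := by rw [hc hy hx]
      _ = (x * x) * (y * y) := by group
      _ = 1 := by rw [h1, h2, one_mul]
  | inv x hx h1 =>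
    calc x⁻¹ * x⁻¹ = (x * x)⁻¹ := by group
      _ = 1 := by rw [h1, inv_one]

/-- `U` as an additive group -/
def AU {V : Subgroup G} {W : Fin n → Fin n → Subgroup G} {ε : (Fin n → ZMod 2) → G} (_ : FBase V W ε) {i j : Fin n} (_ : i ≠ j) :
    Type u := Additive (UU ε i j)

noncomputable instance (b : FBase V W ε) (hij : i ≠ j) : AddCommGroup (AU b hij) :=
  { (inferInstance : AddGroup (Additive (UU ε i j))) with
    add_comm := fun x y => Additive.toMul.injective (Subtype.ext
      (uu_comm b hij (Additive.toMul x).2 (Additive.toMul y).2)) }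

/-- the group element -/
def val {b : FBase V W ε} {hij : i ≠ j} (a : AU b hij) : G := ((Additive.toMul a : UU ε i j) : G)

/-- the vector -/
def mk (b : FBase V W ε) (hij : i ≠ j) {u : G} (hu : u ∈ UU ε i j) : AU b hij :=
  Additive.ofMul (⟨u, hu⟩ : UU ε i j)

section AU

variable {b : FBase V W ε} {hij : i ≠ j}

@[simp] theorem val_mk {u : G} (hu : u ∈ UU ε i j) : val (mk b hij hu) = u := rfl

theorem val_mem (a : AU b hij) : val a ∈ UU ε i j := (Additive.toMul a : UU ε i j).2

theorem val_add (a a' : AU b hij) : val (a + a') = val a * val a' := rfl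

theorem val_zero : val (0 : AU b hij) = 1 := rfl

theorem val_inj {a a' : AU b hij} (h : val a = val a') : a = a' :=
  Additive.toMul.injective (Subtype.ext h)

theorem au_two (a : AU b hij) : a + a = 0 := val_inj (by
  rw [val_add, val_zero]
  exact uu_sq b hij (val_mem a))

/-- `c ^ t` -/
def pw (c : G) (t : ZMod 2) : G := if t = 0 then 1 else c

@[simp] theorem pw_zero (c : G) : pw c 0 = 1 := if_pos rfl

@[simp] theorem pw_one (c : G) : pw c 1 = c := if_neg (by decide)

/-- `x` acts on `U` as the transvection `t(c, f)` -/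
def Act (x c : G) (f : AU b hij →+ ZMod 2) : Prop := ∀ a : AU b hij, x * val a * x⁻¹ = val a * pw c (f a)

theorem Act.iff_zero {x c : G} {f : AU b hij →+ ZMod 2} (hf : Act x c f) (hc : c ≠ 1)
    (a : AU b hij) : f a = 0 ↔ x * val a * x⁻¹ = val a := by
  rw [hf a]
  constructor
  · intro h; rw [h, pw_zero, mul_one]
  · intro h
    by_contra h0
    rw [z2_one h0, pw_one] at h
    exact hc (mul_eq_left.mp h)

theorem exists_act {x c : G} (hc : c ≠ 1) (hc2 : c * c = 1) (hcU : c ∈ UU ε i j)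
    (hx : ∀ u ∈ UU ε i j, x * u * x⁻¹ = u ∨ x * u * x⁻¹ = u * c) : ∃ f : AU b hij →+ ZMod 2, Act x c f := by
  classical
  let f : AU b hij → ZMod 2 := fun a => if x * val a * x⁻¹ = val a then 0 else 1
  have hf : ∀ a, x * val a * x⁻¹ = val a * pw c (f a) := by
    intro a
    by_cases h : x * val a * x⁻¹ = val a
    · have : f a = 0 := if_pos h
      rw [this, pw_zero, mul_one, h]
    · have : f a = 1 := if_neg h
      rw [this, pw_one]
      exact (hx _ (val_mem a)).resolve_left h
  have huniq : ∀ a : AU b hij, ∀ t : ZMod 2, x * val a * x⁻¹ = val a * pw c t → f a = t := by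
    intro a t ht
    rw [hf a] at ht
    have h1 := mul_left_cancel ht
    rcases z2 (f a) with h2 | h2 <;> rcases z2 t with h3 | h3
    · rw [h2, h3]
    · rw [h2, h3, pw_zero, pw_one] at h1; exact absurd h1.symm hc
    · rw [h2, h3, pw_zero, pw_one] at h1; exact absurd h1 hc
    · rw [h2, h3]
  refine ⟨AddMonoidHom.mk' f ?_, hf⟩
  intro a a'
  apply huniq
  rw [val_add]
  have e1 : x * (val a * val a') * x⁻¹ = (x * val a * x⁻¹) * (x * val a' * x⁻¹) := by group
  have hcomm : ∀ t, pw c t * val a' = val a' * pw c t := by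
    intro t
    rcases z2 t with h | h
    · rw [h, pw_zero, one_mul, mul_one]
    · rw [h, pw_one]; exact uu_comm b hij hcU (val_mem a')
  have hpw : ∀ s t, pw c s * pw c t = pw c (s + t) := by
    intro s t
    rcases z2 s with h | h <;> rcases z2 t with h' | h' <;> rw [h, h']
    · simp
    · simp
    · simp
    · rw [pw_one, hc2, show (1 : ZMod 2) + 1 = 0 by decide, pw_zero]
  rw [e1, hf, hf]
  calc val a * pw c (f a) * (val a' * pw c (f a'))
      = val a * (pw c (f a) * val a') * pw c (f a') := by group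
    _ = val a * val a' * (pw c (f a) * pw c (f a')) := by rw [hcomm]; group
    _ = _ := by rw [hpw]

end AU

/-- the functionals with centre `c` -/
def FF (b : FBase V W ε) (hij : i ≠ j) (a : AU b hij) : Set (AU b hij →+ ZMod 2) :=
  {f | ∃ x, Wc W ε i j (val a) x ∧ Act x (val a) f}

theorem sys [Finite G] (b : FBase V W ε) (hn : 3 ≤ n) (hij : i ≠ j) :
    Sys {a : AU b hij | KK ε i j (val a)} (FF b hij) where
  two := au_two
  add := by
    rintro c hc f ⟨x, hx, hf⟩ g ⟨y, hy, hg⟩
    have hc' : KK ε i j (val c) := hc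
    refine ⟨x * y, wc_mul b hx hy, fun a => ?_⟩
    have e1 : x * y * val a * (x * y)⁻¹ = x * (y * val a * y⁻¹) * x⁻¹ := by group
    have e2 : x * (val a * pw (val c) (g a)) * x⁻¹ =
        (x * val a * x⁻¹) * (x * pw (val c) (g a) * x⁻¹) := by group
    have e3 : x * pw (val c) (g a) * x⁻¹ = pw (val c) (g a) := by
      rcases z2 (g a) with h | h
      · rw [h, pw_zero]; group
      · rw [h, pw_one]; exact wc_cen b hx
    have hpw : ∀ s t, pw (val c) s * pw (val c) t = pw (val c) (s + t) := by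
      intro s t
      rcases z2 s with h | h <;> rcases z2 t with h' | h' <;> rw [h, h']
      · simp
      · simp
      · simp
      · rw [pw_one, kk_sq b hc', show (1 : ZMod 2) + 1 = 0 by decide, pw_zero]
    rw [e1, hg a, e2, e3, hf a, AddMonoidHom.add_apply, mul_assoc, hpw]
  eq := by
    intro c hc d hd hdc
    obtain ⟨g, k, l, w⟩ := (hc : KK ε i j (val c))
    obtain ⟨g', k', l', w'⟩ := (hd : KK ε i j (val d))
    obtain ⟨σ, h1, h2, h3⟩ := exists_perm w.ne w'.ne
    obtain ⟨m, hm, hs⟩ := b.ev.full σ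
    have hmN : m ∈ NN ε i j := by
      rw [mem_NN', rr_conj hs, h3 i (Ne.symm w.ki) (Ne.symm w.li) (Ne.symm w'.ki) (Ne.symm w'.li),
        h3 j (Ne.symm w.kj) (Ne.symm w.lj) (Ne.symm w'.kj) (Ne.symm w'.lj)]
    set h := g' * m * g⁻¹ with hh
    have hhN : h ∈ NN ε i j := mul_mem (mul_mem w'.mem hmN) (inv_mem w.mem)
    have hcd : val d = h * val c * h⁻¹ := by
      calc val d = g' * rr ε k' l' * g'⁻¹ := w'.eq
        _ = g' * (m * rr ε k l * m⁻¹) * g'⁻¹ := by rw [rr_conj hs, h1, h2]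
        _ = g' * (m * (g⁻¹ * val c * g) * m⁻¹) * g'⁻¹ := by rw [w.eq]; group
        _ = _ := by rw [hh]; group
    -- the map on vectors
    let φ : AU b hij →+ AU b hij := AddMonoidHom.mk' (fun a => mk b hij (UU_normal (inv_mem hhN) (val_mem a)))
      (fun a a' => val_inj (by
        change h⁻¹ * (val a * val a') * h⁻¹⁻¹ = (h⁻¹ * val a * h⁻¹⁻¹) * (h⁻¹ * val a' * h⁻¹⁻¹)
        group))
    have hφ : ∀ a, val (φ a) = h⁻¹ * val a * h := by
      intro a
      change h⁻¹ * val a * h⁻¹⁻¹ = _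
      rw [inv_inv]
    have hinj : Function.Injective (fun f : AU b hij →+ ZMod 2 => f.comp φ) := by
      intro f f' hff
      ext a
      have h5 : φ (mk b hij (UU_normal hhN (val_mem a))) = a := val_inj (by
        rw [hφ, val_mk]; group)
      have h6 := DFunLike.congr_fun hff (mk b hij (UU_normal hhN (val_mem a)))
      simp only [AddMonoidHom.comp_apply] at h6
      rwa [h5] at h6
    have hmaps : (fun f : AU b hij →+ ZMod 2 => f.comp φ) '' (FF b hij c) ⊆ FF b hij d := by
      rintro _ ⟨f, ⟨x, hx, hf⟩, rfl⟩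
      refine ⟨h * x * h⁻¹, ?_, fun a => ?_⟩
      · rw [hcd]; exact wc_conj hx hhN
      · have h7 := hf (φ a)
        rw [hφ] at h7
        change _ = val a * pw (val d) (f (φ a))
        have h8 : pw (val d) (f (φ a)) = h * pw (val c) (f (φ a)) * h⁻¹ := by
          rcases z2 (f (φ a)) with h9 | h9
          · rw [h9, pw_zero, pw_zero]; group
          · rw [h9, pw_one, pw_one, hcd]
        rw [h8]
        calc h * x * h⁻¹ * val a * (h * x * h⁻¹)⁻¹ = h * (x * (h⁻¹ * val a * h) * x⁻¹) * h⁻¹ := by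
              group
          _ = _ := by rw [h7]; group
    have hfin : Finite (AU b hij) := inferInstanceAs (Finite (Additive (UU ε i j)))
    have hfin2 : Finite (AU b hij →+ ZMod 2) := DFunLike.finite _
    have hcard : (FF b hij c).ncard ≤ (FF b hij d).ncard := by
      rw [← Set.ncard_image_of_injective _ hinj]
      exact Set.ncard_le_ncard hmaps (Set.toFinite _)
    exact (Set.eq_of_subset_of_ncard_le hdc hcard (Set.toFinite _)).symm.subset
  self := by
    rintro c hc f ⟨x, hx, hf⟩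
    rw [hf.iff_zero (kk_ne b hn hc)]
    exact wc_cen b hx
  star := by
    rintro c hc d hd g ⟨y, hy, hg⟩ h0 f ⟨x, hx, hf⟩ hfd
    have hyc : y * val c * y⁻¹ = val c := (hg.iff_zero (kk_ne b hn hd) c).mp h0
    have hyd : y * val d * y⁻¹ = val d := wc_cen b hy
    have hgd : g d = 0 := (hg.iff_zero (kk_ne b hn hd) d).mpr hyd
    refine ⟨y * x * y⁻¹, ?_, fun a => ?_⟩
    · have := wc_conj hx (wc_NN b hy)
      rwa [hyc] at this
    · -- y⁻¹ a y = a d^(g a)
      have e0 : y⁻¹ * val a * y = val (a + if g a = 0 then 0 else d) := by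
        rcases z2 (g a) with h | h
        · rw [if_pos h, add_zero]
          have := (hg.iff_zero (kk_ne b hn hd) a).mp h
          calc y⁻¹ * val a * y = y⁻¹ * (y * val a * y⁻¹) * y := by rw [this]
            _ = val a := by group
        · have hne : g a ≠ 0 := by rw [h]; decide
          rw [if_neg hne, val_add]
          have h1 := hg a
          rw [h, pw_one] at h1
          have h2 : val a = y⁻¹ * val a * y * val d := by
            calc val a = y⁻¹ * (y * val a * y⁻¹) * y := by group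
              _ = y⁻¹ * (val a * val d) * y := by rw [h1]
              _ = y⁻¹ * val a * y * (y⁻¹ * val d * y) := by group
              _ = y⁻¹ * val a * y * (y⁻¹ * (y * val d * y⁻¹) * y) := by rw [hyd]
              _ = y⁻¹ * val a * y * val d := by group
          calc y⁻¹ * val a * y = y⁻¹ * val a * y * val d * val d := by
                rw [mul_assoc (y⁻¹ * val a * y), kk_sq b hd, mul_one]
            _ = val a * val d := by rw [← h2]
      have e1 : y * x * y⁻¹ * val a * (y * x * y⁻¹)⁻¹ = y * (x * (y⁻¹ * val a * y) * x⁻¹) * y⁻¹ := by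
        group
      rw [e1, e0, hf, map_add]
      have e2 : y * (val (a + if g a = 0 then 0 else d) * pw (val c) (f a + f (if g a = 0 then 0 else d))) * y⁻¹
          = (y * val (a + if g a = 0 then 0 else d) * y⁻¹) *
            (y * pw (val c) (f a + f (if g a = 0 then 0 else d)) * y⁻¹) := by group
      have e3 : y * val (a + if g a = 0 then 0 else d) * y⁻¹ = val a := by
        rw [← e0]; group
      have e4 : ∀ t, y * pw (val c) t * y⁻¹ = pw (val c) t := by
        intro t
        rcases z2 t with h | h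
        · rw [h, pw_zero]; group
        · rw [h, pw_one]; exact hyc
      have e5 : f (if g a = 0 then 0 else d) = g a := by
        rcases z2 (g a) with h | h
        · rw [if_pos h, h, map_zero]
        · have hne : g a ≠ 0 := by rw [h]; decide
          rw [if_neg hne, h, hfd]
      rw [e2, e3, e4, e5]
      rfl

/-- the letters different from `i`, `j` -/
def Qf (i j k : Fin n) : Prop := k ≠ i ∧ k ≠ j

open Classical in
/-- the points as vectors -/
noncomputable def pp (b : FBase V W ε) (hij : i ≠ j) (k : Fin n) : AU b hij :=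
  if h : Qf i j k then mk b hij (zz_mem_UU h.1 h.2) else 0

theorem val_pp (b : FBase V W ε) (hij : i ≠ j) {k : Fin n} (h : Qf i j k) :
    val (pp b hij k) = zz ε k := by
  unfold pp
  rw [dif_pos h, val_mk]

theorem val_pp_add (b : FBase V W ε) (hij : i ≠ j) {k l : Fin n} (hk : Qf i j k) (hl : Qf i j l) :
    val (pp b hij k + pp b hij l) = rr ε k l := by
  rw [val_add, val_pp b hij hk, val_pp b hij hl]
  rfl

theorem wit_one {k l : Fin n} (hk : Qf i j k) (hl : Qf i j l) (hkl : k ≠ l) :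
    Wit ε i j (rr ε k l) 1 k l where
  mem := one_mem _
  ne := hkl
  ki := hk.1
  kj := hk.2
  li := hl.1
  lj := hl.2
  eq := by group

theorem wc_rr (b : FBase V W ε) {k l : Fin n} (hk : Qf i j k) (hl : Qf i j l) (hkl : k ≠ l) {x : G} :
    Wc W ε i j (rr ε k l) x ↔ x ∈ W k l := by
  rw [wc_iff b (wit_one hk hl hkl)]
  have : (1 : G)⁻¹ * x * 1 = x := by group
  rw [this]

/-- every element of `W_c` is a transvection -/
theorem exists_f (b : FBase V W ε) (hn : 3 ≤ n) (hij : i ≠ j) {c x : G} (hx : Wc W ε i j c x) :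
    ∃ f : AU b hij →+ ZMod 2, Act x c f :=
  exists_act (kk_ne b hn (wc_kk hx)) (kk_sq b (wc_kk hx)) (kk_mem_UU (wc_kk hx))
    fun _ hu => wc_act b hij hx hu

/-- the permutation is one of two -/
theorem swap_fix {k l m : Fin n} (h1 : m ≠ k) (h2 : m ≠ l) : Equiv.swap k l m = m :=
  Equiv.swap_apply_of_ne_of_ne h1 h2

/-- a functional on `U` killing `K` and `r_ij` is zero (`n` odd) -/
theorem sep (b : FBase V W ε) (hodd : Odd n) (hn : 3 ≤ n) (hij : i ≠ j) (f : AU b hij →+ ZMod 2)
    (hN : ∀ a : AU b hij, ∀ g ∈ NN ε i j, val a = g * rr ε i j * g⁻¹ → f a = 0)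
    (hK : ∀ a : AU b hij, KK ε i j (val a) → f a = 0) : f = 0 := by
  have key : ∀ u : G, ∀ hu : u ∈ UU ε i j, f (mk b hij hu) = 0 := by
    intro u hu
    have hu' := hu
    unfold UU at hu'
    induction hu' using closure_induction with
    | mem x hx =>
      obtain ⟨g, hg, k, h1, h2, rfl⟩ := hx
      -- the points take the same value
      have hsame : ∀ m (hm : Qf i j m) (hmu : g * zz ε m * g⁻¹ ∈ UU ε i j),
          f (mk b hij hmu) = f (mk b hij hu) := by
        intro m hm hmu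
        by_cases hkm : m = k
        · subst hkm; rfl
        · have h3 : f (mk b hij hmu + mk b hij hu) = 0 := by
            apply hK
            refine ⟨g, m, k, ⟨hg, hkm, hm.1, hm.2, h1, h2, ?_⟩⟩
            rw [val_add, val_mk, val_mk]
            unfold rr
            group
          rw [map_add] at h3
          rcases z2 (f (mk b hij hmu)) with h4 | h4 <;> rcases z2 (f (mk b hij hu)) with h5 | h5
          · rw [h4, h5]
          · rw [h4, h5] at h3; exact absurd h3 (by decide)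
          · rw [h4, h5] at h3; exact absurd h3 (by decide)
          · rw [h4, h5]
      have h6 := compl_rr b.ev hij (fun t x => ∃ hx : g * x * g⁻¹ ∈ UU ε i j,
        f (mk b hij hx) = t • f (mk b hij hu)) (by
          refine ⟨by rw [mul_one, mul_inv_cancel]; exact one_mem _, ?_⟩
          have : mk b hij (u := g * 1 * g⁻¹) (by rw [mul_one, mul_inv_cancel]; exact one_mem _) = 0 :=
            val_inj (by rw [val_mk, val_zero]; group)
          rw [this, map_zero, zero_smul]) (by
          rintro m hm1 hm2 t x ⟨hx, hfx⟩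
          have hm : g * zz ε m * g⁻¹ ∈ UU ε i j := UU_normal hg (zz_mem_UU hm1 hm2)
          refine ⟨?_, ?_⟩
          · have : g * (zz ε m * x) * g⁻¹ = (g * zz ε m * g⁻¹) * (g * x * g⁻¹) := by group
            rw [this]; exact mul_mem hm hx
          · have e1 : ∀ hy : g * (zz ε m * x) * g⁻¹ ∈ UU ε i j,
                mk b hij hy = mk b hij hm + mk b hij hx := fun hy => val_inj (by
              rw [val_mk, val_add, val_mk, val_mk]; group)
            rw [e1, map_add, hfx, hsame m ⟨hm1, hm2⟩, add_comm, succ_nsmul])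
      obtain ⟨hy, h7⟩ := h6
      rw [hN _ g hg rfl] at h7
      obtain ⟨t, ht⟩ := hodd
      rcases z2 (f (mk b hij hu)) with h8 | h8
      · exact h8
      · exfalso
        rw [h8] at h7
        have h9 : n - 2 = 2 * (t - 1) + 1 := by omega
        rw [h9, add_smul, mul_smul, one_smul, two_nsmul, z2_add, zero_add] at h7
        exact absurd h7 (by decide)
    | one =>
      have : mk b hij hu = 0 := val_inj (by rw [val_mk, val_zero])
      rw [this, map_zero]
    | mul x y hx hy h1 h2 =>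
      have hx' : x ∈ UU ε i j := hx
      have hy' : y ∈ UU ε i j := hy
      have : mk b hij hu = mk b hij hx' + mk b hij hy' := val_inj rfl
      rw [this, map_add, h1 hx', h2 hy', add_zero]
    | inv x hx h1 =>
      have hx' : x ∈ UU ε i j := hx
      have : mk b hij hu = mk b hij hx' := val_inj (by
        rw [val_mk, val_mk]
        exact inv_eq_of_mul_eq_one_left (uu_sq b hij hx'))
      rw [this]
      exact h1 hx'
  ext a
  exact key (val a) (val_mem a)

/-- **(3)**: `e = 1` -/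
theorem one [Finite G] (b : FBase V W ε) (hodd : Odd n) (hn : 7 ≤ n) {k l : Fin n} (hij : i ≠ j)
    (hkl : k ≠ l) (ki : k ≠ i) (kj : k ≠ j) (li : l ≠ i) (lj : l ≠ j) {w : G}
    (hw : w ∈ W k l) (hw1 : Acts ε w 1) {u : G} (hu : u ∈ UU ε i j) : w * u * w⁻¹ = u := by
  have hn3 : 3 ≤ n := by omega
  have hk : Qf i j k := ⟨ki, kj⟩
  have hl : Qf i j l := ⟨li, lj⟩
  have hwc : Wc W ε i j (rr ε k l) w := (wc_rr b hk hl hkl).mpr hw
  obtain ⟨f, hf⟩ := exists_f b hn3 hij hwc
  have hfix : ∀ x : Fin n → ZMod 2, w * ε x * w⁻¹ = ε x := fun x => hw1 x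
  have hcne := kk_ne b hn3 (wc_kk hwc)
  have hS := sys b hn3 hij
  -- five letters
  obtain ⟨a, ha, hqa⟩ : ∃ a : Fin 5 → Fin n, Function.Injective a ∧ ∀ x, Qf i j (a x) := by
    have hcard : 5 ≤ (Finset.univ \ {i, j} : Finset (Fin n)).card := by
      rw [Finset.card_sdiff_of_subset (Finset.subset_univ _), Finset.card_univ, Fintype.card_fin,
        Finset.card_pair hij]
      omega
    obtain ⟨t, ht, htc⟩ := Finset.exists_subset_card_eq hcard
    refine ⟨fun x => (t.equivFinOfCardEq htc).symm x, ?_, ?_⟩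
    · intro x y hxy
      exact (t.equivFinOfCardEq htc).symm.injective (Subtype.ext hxy)
    · intro x
      have h1 := ht ((t.equivFinOfCardEq htc).symm x).2
      simp only [Finset.mem_sdiff, Finset.mem_univ, true_and, Finset.mem_insert,
        Finset.mem_singleton, not_or] at h1
      exact h1
  have hmem : f ∈ FF b hij (pp b hij k + pp b hij l) := by
    refine ⟨w, ?_, ?_⟩
    · rw [val_pp_add b hij hk hl]; exact hwc
    · rw [val_pp_add b hij hk hl]; exact hf
  have h0 : f = 0 := by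
    refine hS.dead (Q := Qf i j) (p := pp b hij) ?_ ?_ ?_ ha hqa hk hl hkl hmem ?_ ?_
    · intro k l qk ql hkl
      change KK ε i j _
      rw [val_pp_add b hij qk ql]
      exact ⟨1, k, l, wit_one qk ql hkl⟩
    · intro k l m qk ql qm hkl hlm hkm
      obtain ⟨x, hx, hxs⟩ := b.mov k l hkl
      have hxc : Wc W ε i j (rr ε k l) x := (wc_rr b qk ql hkl).mpr hx
      obtain ⟨g, hg⟩ := exists_f b hn3 hij hxc
      refine ⟨g, ⟨x, ?_, ?_⟩, ?_⟩
      · rw [val_pp_add b hij qk ql]; exact hxc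
      · rw [val_pp_add b hij qk ql]; exact hg
      · refine z2_one fun h1 => ?_
        rw [hg.iff_zero (kk_ne b hn3 (wc_kk hxc)), val_pp_add b hij ql qm, rr_conj hxs,
          Equiv.swap_apply_right, swap_fix hkm.symm hlm.symm, ← rr_add b.ev k l m, mul_eq_right] at h1
        exact rr_ne_one b.ev hn3 hkl h1
    · rintro k l m p qk ql qm qp hkl hmp hkm hkp hlm hlp ⟨g, ⟨x, hx, hg⟩, hg1⟩
      rw [val_pp_add b hij qk ql] at hx hg
      rw [wc_rr b qk ql hkl] at hx
      have h1 : g (pp b hij m + pp b hij p) = 0 := by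
        rw [hg.iff_zero (rr_ne_one b.ev hn3 hkl), val_pp_add b hij qm qp]
        rcases b.act k l hkl x hx with h | h
        · rw [rr_conj h]; rfl
        · rw [rr_conj h, swap_fix hkm.symm hlm.symm, swap_fix hkp.symm hlp.symm]
      rw [h1] at hg1
      exact absurd hg1 (by decide)
    · intro m p qm qp hmp
      rw [hf.iff_zero hcne, val_pp_add b hij qm qp, rr_conj hw1]
      rfl
    · intro hK
      refine sep b hodd hn3 hij f ?_ hK
      · intro a g hg ha
        rw [mem_NN'] at hg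
        rw [hf.iff_zero hcne, ha, hg, rr_conj hw1]
        rfl
  have h1 := hf (mk b hij hu)
  rw [h0, AddMonoidHom.zero_apply, pw_zero, mul_one, val_mk] at h1
  exact h1

end Cfsg.Agent.Omega.NSix.Fam.One
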